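import Groth.Agent.Ega2Proj.AmpleBasic

/-!
# A section generating at finitely many given points
-/

set_option autoImplicit false
set_option linter.style.haveILetI false
set_option backward.isDefEq.respectTransparency.types false

universe u

open CategoryTheory AlgebraicGeometry TopologicalSpace Opposite

namespace Groth.DecShCurve

open Groth.PicAux Groth.PropsBasic.Ample

variable {X : Scheme.{u}} {M : X.Modules}

theorem exists_mem_gloc_finite {k : Type u} [Field k] [Infinite k] (φ : k →+* Γ(X, (⊤ : X.Opens)))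
    (hM : PicF.IsInvertible M) (h : ∀ x : X, ∃ t : Γ(M, ⊤), x ∈ gloc t) {S : Set X} (hS : S.Finite) :
    ∃ t : Γ(M, ⊤), ∀ x ∈ S, x ∈ gloc t := by
  induction S, hS using Set.Finite.induction_on with
  | empty => exact ⟨0, fun x hx => absurd hx (Set.notMem_empty x)⟩
  | @insert y T _ hT ih =>
    obtain ⟨t, ht⟩ := ih
    obtain ⟨s, hs⟩ := h y
    have key : ∀ x : X, (x ∈ gloc t ∨ x ∈ gloc s) →
        {c : k | x ∉ gloc (t + φ c • s)}.Subsingleton := by
      intro x hx c hc c' hc'
      obtain ⟨U, hxU, e, a, he, ha⟩ := Ega2Proj.exists_coeffs hM (![t, s]) x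
      let ev : Γ(X, U) →+* X.residueField x := (X.evaluation U x hxU).hom
      have hmem : ∀ (w : Γ(M, ⊤)) (b : Γ(X, U)), res M le_top w = b • e →
          (x ∈ gloc w ↔ ev b ≠ 0) := fun w b hw => by
        rw [Ega2Proj.mem_gloc_iff he hw hxU, ← X.mem_basicOpen b x hxU]
        exact (X.evaluation_ne_zero_iff_mem_basicOpen x hxU b).symm
      let ψ : k →+* X.residueField x :=
        (ev.comp (X.presheaf.map (homOfLE (le_top : U ≤ ⊤)).op).hom).comp φ
      have hcomb : ∀ d : k, res M le_top (t + φ d • s) =
          (a 0 + X.presheaf.map (homOfLE (le_top : U ≤ ⊤)).op (φ d) * a 1) • e := fun d => by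
        rw [res_add, res_smul, add_smul, mul_smul]
        exact congrArg₂ _ (ha 0) (congrArg _ (ha 1))
      have z : ∀ d : k, x ∉ gloc (t + φ d • s) → ev (a 0) + ψ d * ev (a 1) = 0 := fun d hd => by
        have := (not_congr (hmem _ _ (hcomb d))).1 hd
        rw [not_not, map_add, map_mul] at this
        exact this
      by_contra hne
      have h1 : ev (a 1) = 0 := by
        have h' : (ψ c - ψ c') * ev (a 1) = 0 := by linear_combination z c hc - z c' hc'
        exact (mul_eq_zero.1 h').resolve_left (sub_ne_zero.2 fun h' => hne (ψ.injective h'))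
      have h0 : ev (a 0) = 0 := by simpa [h1] using z c hc
      rcases hx with hx | hx
      · exact (hmem t _ (ha 0)).1 hx h0
      · exact (hmem s _ (ha 1)).1 hx h1
    have hfin : (⋃ x ∈ insert y T, {c : k | x ∉ gloc (t + φ c • s)}).Finite :=
      (hT.insert y).biUnion fun x hx => (key x (hx.elim (fun e => Or.inr (e ▸ hs)) (fun hxT => Or.inl (ht x hxT)))).finite
    obtain ⟨c, hc⟩ := hfin.exists_notMem
    refine ⟨t + φ c • s, fun x hx => by_contra fun hn => hc (Set.mem_biUnion hx hn)⟩

end Groth.DecShCurve
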