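import Groth.Prelude.Def_TorSh
import Groth.Agent.Divisors.QCohLoc
import Groth.Agent.RefRank.MeroTotal
import Groth.Agent.EulerDeg.Supported
import Groth.Agent.HilbStab.Pure
import Groth.Agent.Misc1.TorSh
import Groth.Agent.EulerDeg.Coherent

/-!
# Torsion-free modules on reduced curves without isolated points are pure
-/

set_option autoImplicit false
set_option linter.style.haveILetI false

universe u

open CategoryTheory CategoryTheory.Limits AlgebraicGeometry TopologicalSpace

namespace Groth.DecShCurve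

variable {X : Scheme.{u}}

/-- A closed set all of whose points are closed is finite on a Noetherian scheme. -/
theorem finite_of_points_closed [NoetherianSpace X] {S : Set X} (hS : IsClosed S)
    (h : ∀ x ∈ S, IsClosed ({x} : Set X)) : S.Finite := by
  obtain ⟨T, hTf, hTc, hTi, rfl⟩ := NoetherianSpace.exists_finite_set_isClosed_irreducible hS
  refine hTf.sUnion fun t ht => ?_
  obtain ⟨η, hη⟩ := QuasiSober.sober (hTi t ht) (hTc t ht)
  have hηt : η ∈ t := hη.mem
  rw [← hη.def, (h η (Set.mem_sUnion_of_mem hηt ht)).closure_eq]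
  exact Set.finite_singleton _

variable [IsNoetherian X] [IsReduced X]

/-- A nonzerodivisor vanishing at a given closed point which is not open. -/
theorem exists_nzd {W : X.Opens} (hW : IsAffineOpen W) (x : W) (hc : IsClosed ({x.1} : Set X))
    (ho : ¬ IsOpen ({x.1} : Set X)) :
    ∃ r : Γ(X, W), r ∈ nonZeroDivisors Γ(X, W) ∧ x.1 ∉ X.basicOpen r := by
  classical
  haveI : IsNoetherianRing Γ(X, W) := IsLocallyNoetherian.component_noetherian ⟨W, hW⟩
  haveI : _root_.IsReduced Γ(X, W) := IsReduced.component_reduced W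
  set p := hW.primeIdealOf x with hp
  have hmax : p.asIdeal.IsMaximal := by
    rw [← PrimeSpectrum.isClosed_singleton_iff_isMaximal]
    have : hW.fromSpec ⁻¹' {x.1} = {p} := Set.ext fun q => ⟨fun h => hW.fromSpec.isOpenEmbedding.injective
      ((h : hW.fromSpec q = x.1).trans (hW.fromSpec_primeIdealOf x).symm), fun h =>
        (congrArg _ (h : q = p)).trans (hW.fromSpec_primeIdealOf x)⟩
    exact this ▸ hc.preimage hW.fromSpec.continuous
  let M := (minimalPrimes.finite_of_isNoetherianRing (R := Γ(X, W))).toFinset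
  have hM : ∀ {q}, q ∈ M ↔ q ∈ minimalPrimes Γ(X, W) := Set.Finite.mem_toFinset _
  have hMp : ∀ q ∈ M, q.IsPrime := fun q hq => (hM.1 hq).1.1
  have hsub : ¬ (p.asIdeal : Set Γ(X, W)) ⊆ ⋃ q ∈ (M : Set (Ideal Γ(X, W))), (q : Set Γ(X, W)) := by
    intro h
    obtain ⟨q, hpM, hpq⟩ := (Ideal.subset_union_prime (f := id) ⊥ ⊥ fun q hq _ _ => hMp q hq).1 h
    obtain rfl : p.asIdeal = q := hmax.eq_of_le (hMp q hpM).ne_top hpq
    -- then the point is open
    obtain ⟨f, hf, hfp⟩ : ∃ f, (∀ q ∈ M.erase p.asIdeal, f ∈ q) ∧ f ∉ p.asIdeal := by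
      by_contra! hall
      obtain ⟨q, hq, hqp⟩ := (Ideal.IsPrime.inf_le' p.isPrime (s := M.erase p.asIdeal) (f := id)).1
        (fun f hf => hall f fun q hq => (Finset.inf_le (f := id) hq : _ ≤ q) hf)
      obtain ⟨hne, hqM⟩ := Finset.mem_erase.1 hq
      exact hne (le_antisymm hqp ((hM.1 hpM).2 ⟨hMp q hqM, bot_le⟩ hqp))
    refine ho ?_
    have : ({x.1} : Set X) = hW.fromSpec '' ((PrimeSpectrum.basicOpen f : Opens (PrimeSpectrum Γ(X, W))) : Set (PrimeSpectrum Γ(X, W))) := by
      rw [show (PrimeSpectrum.basicOpen f : Set (PrimeSpectrum Γ(X, W))) = {p} from ?_]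
      · exact (Set.image_singleton.trans (congrArg (fun z => ({z} : Set X)) (hW.fromSpec_primeIdealOf x))).symm
      refine Set.ext fun P => ⟨fun hP => ?_, fun hP => (hP : P = p) ▸ hfp⟩
      obtain ⟨q, hq, hqP⟩ := Ideal.exists_minimalPrimes_le (I := ⊥) (J := P.asIdeal) bot_le
      by_cases hqp : q = p.asIdeal
      · exact PrimeSpectrum.ext (hmax.eq_of_le P.isPrime.ne_top (hqp ▸ hqP)).symm
      · exact absurd (hqP (hf q (Finset.mem_erase.2 ⟨hqp, hM.2 hq⟩))) hP
    rw [this]
    exact hW.fromSpec.isOpenEmbedding.isOpenMap _ (PrimeSpectrum.basicOpen f).2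
  obtain ⟨r, hrp, hr⟩ := Set.not_subset.1 hsub
  refine ⟨r, mem_nonZeroDivisors_iff_right.2 fun y hy => ?_, fun hx => ?_⟩
  · have : y ∈ nilradical Γ(X, W) := by
      rw [nilradical, ← Ideal.sInf_minimalPrimes, Ideal.mem_sInf]
      intro q hq
      haveI := hq.1.1
      exact (Ideal.IsPrime.mem_or_mem hq.1.1 (hy ▸ q.zero_mem : y * r ∈ q)).resolve_right
        fun h => hr (Set.mem_biUnion (hM.2 hq) h)
    rw [nilradical_eq_zero] at this; exact this
  · have h' : p ∈ PrimeSpectrum.basicOpen r := by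
      rw [← hW.fromSpec_preimage_basicOpen]
      show hW.fromSpec p ∈ X.basicOpen r
      rw [hp, hW.fromSpec_primeIdealOf x]; exact hx
    exact h' hrp

theorem isZero_of_supportedAtClosed (hiso : ∀ x : X, ¬ IsOpen ({x} : Set X)) {E A : X.Modules}
    (hE : _root_.TorSh.IsTorsionFree E) (ι : A ⟶ E) [Mono ι] (hA : Coh.IsCoh A)
    (h : EulerDeg.SupportedAtClosed A) : IsZero A := by
  refine (QCohMod.isZero_iff_support_eq_empty A).mpr (Set.eq_empty_iff_forall_notMem.mpr fun x hx =>
    hx ⟨fun a b => ?_⟩)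
  suffices key : ∀ a : A.presheaf.stalk x, a = 0 from (key a).trans (key b).symm
  intro a
  obtain ⟨U, hxU, s, rfl⟩ := TopCat.Presheaf.exists_germ_eq A.presheaf a
  have hS := CohTwo.isClosed_support A hA
  have hfin : (CohB1.support A \ {x}).Finite := (finite_of_points_closed hS h).sdiff
  have hcl : IsClosed (CohB1.support A \ {x}) := by
    rw [← Set.biUnion_of_singleton (CohB1.support A \ {x})]
    exact hfin.isClosed_biUnion fun y hy => h y hy.1
  obtain ⟨W, hW, hxW, hWle⟩ := exists_isAffineOpen_mem_and_subset (X := X) (x := x)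
    (U := U ⊓ ⟨(CohB1.support A \ {x})ᶜ, hcl.isOpen_compl⟩) ⟨hxU, fun h => h.2 rfl⟩
  obtain ⟨r, hr, hxr⟩ := exists_nzd hW ⟨x, hxW⟩ (h x hx) (hiso x)
  let s' : Γ(A, W) := A.presheaf.map (homOfLE (hWle.trans inf_le_left)).op s
  have h0 : A.presheaf.map (homOfLE (X.basicOpen_le r)).op s' = 0 := by
    refine Misc1.TorSh.eq_zero_of_germ A _ fun y hy => ?_
    have hyS : y ∉ CohB1.support A := fun hyS =>
      (hWle (X.basicOpen_le r hy)).2 ⟨hyS, fun e => hxr ((e : y = x) ▸ hy)⟩
    haveI : Subsingleton (A.presheaf.stalk y) := not_not.1 hyS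
    exact Subsingleton.elim _ _
  obtain ⟨n, hn⟩ := Divisors.exists_pow_smul_eq_zero hW hA.1 r s' h0
  have hg : A.presheaf.germ W x hxW s' = A.presheaf.germ U x hxU s :=
    A.presheaf.germ_res_apply (homOfLE (hWle.trans inf_le_left)) x hxW s
  rw [← hg]
  have hi : Function.Injective (RefHull.stalkMapₗ ι x) :=
    (QCohMod.mono_iff_stalk ι).1 inferInstance x
  apply hi
  rw [map_zero]
  have hreg : IsRegular (X.presheaf.germ W x hxW r ^ n) :=
    (isRegular_iff_mem_nonZeroDivisors.2 (RefRank.MeroTotal.germ_nzd hW hr ⟨x, hxW⟩)).pow n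
  haveI := hE x
  refine Module.IsTorsionFree.isSMulRegular hreg ?_
  show _ • _ = _ • (0 : E.presheaf.stalk x)
  rw [smul_zero, ← map_smul, ← map_pow, ← Divisors.germ_smul_mod hxW A (r ^ n) s', hn, map_zero, map_zero]

/-- Torsion-free coherent modules on a reduced curve without isolated points are pure. -/
theorem isPure_one (hdim : topologicalKrullDim X ≤ 1) (hiso : ∀ x : X, ¬ IsOpen ({x} : Set X))
    {E : X.Modules} (hE : _root_.TorSh.IsTorsionFree E) : ShStab.IsPure X E 1 := by
  intro A ι hι hA h0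
  haveI := hA.1
  refine le_antisymm ((SpectralTopology.dim_le_of_subset (Set.subset_univ _)).trans
    ((Homeomorph.Set.univ X).isHomeomorph.topologicalKrullDim_eq.le.trans hdim)) ?_
  by_contra hlt
  exact h0 (isZero_of_supportedAtClosed hiso hE ι hA (EulerDeg.supportedAtClosed_of_dim_le_zero
    (ENat.WithBot.lt_add_one_iff.1 (lt_of_not_ge hlt))))

end Groth.DecShCurve
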