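import Groth.Prelude.Def_DecSh2
import Groth.Prelude.Def_Pic13
import Groth.Agent.DecShCurve.TorsFree
import Groth.Agent.HilbStab.Pure
import Groth.Agent.EulerDeg.Supported
import Groth.Agent.EulerDeg.Birational
import Groth.Agent.EulerDeg.Tensor
import Groth.Agent.Misc13.NumTriv.VeryAmple

/-!
# Multiplicity and Euler characteristic on a curve
-/

set_option autoImplicit false
set_option linter.style.haveILetI false
set_option backward.isDefEq.respectTransparency.types false

universe u

open CategoryTheory CategoryTheory.Limits AlgebraicGeometry Polynomial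

namespace Groth.DecShCurve

open Groth

variable (k : Type u) [Field k] {X : Scheme.{u}} [X.Over (Spec (CommRingCat.of k))]
  [IsProper (X ↘ Spec (CommRingCat.of k))] (hdim : topologicalKrullDim X ≤ 1)

section Basic

variable {E F G : X.Modules}

include hdim in
theorem h1_le_of_epi (q : E ⟶ G) [Epi q] (hE : Coh.IsCoh E) :
    Module.finrank k (Coh.HH X G 1) ≤ Module.finrank k (Coh.HH X E 1) := by
  have := EulerDeg.noetherianSpace_of_proper k X
  have hS : (ShortComplex.mk (kernel.ι q) q (kernel.condition q)).ShortExact :=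
    { exact := ShortComplex.exact_of_f_is_kernel _ (kernelIsKernel q) }
  have := EulerDeg.finite_HH k X hE 1
  exact EulerDeg.finrank_le_of_surjective k (EulerDeg.hMap k q 1) fun y =>
    ((EulerDeg.exact_right k hS 1) y).1
      (@Subsingleton.elim _ (EulerDeg.subsingleton_HH_of_dim_le_one X hdim _ 2 le_rfl) _ _)

theorem h0_le_of_mono (i : F ⟶ E) [Mono i] (hE : Coh.IsCoh E) :
    Module.finrank k (Coh.HH X F 0) ≤ Module.finrank k (Coh.HH X E 0) :=
  by
  have := EulerDeg.finite_HH k X hE 0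
  have hS : (ShortComplex.mk i (cokernel.π i) (cokernel.condition i)).ShortExact :=
    { exact := ShortComplex.exact_of_g_is_cokernel _ (cokernelIsCokernel i) }
  have h := EulerDeg.injective_zero k hS
  exact LinearMap.finrank_le_finrank_of_injective (f := EulerDeg.hMap k i 0) h

include hdim in
theorem euler_le_h0 (M : X.Modules) :
    Curv2.euler k X M ≤ (Module.finrank k (Coh.HH X M 0) : ℤ) := by
  rw [EulerDeg.euler_eq_h0_sub_h1 k X hdim M]; omega

include hdim in
theorem euler_ge_neg_h1 (M : X.Modules) :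
    -(Module.finrank k (Coh.HH X M 1) : ℤ) ≤ Curv2.euler k X M := by
  rw [EulerDeg.euler_eq_h0_sub_h1 k X hdim M]; omega

theorem euler_ses {S : ShortComplex X.Modules} (hS : S.ShortExact) (h₁ : Coh.IsCoh S.X₁)
    (h₃ : Coh.IsCoh S.X₃) :
    Curv2.euler k X S.X₂ = Curv2.euler k X S.X₁ + Curv2.euler k X S.X₃ :=
  EulerDeg.euler_add hS (EulerDeg.finCoh k X h₁) (EulerDeg.finCoh k X h₃)

theorem euler_mono (i : F ⟶ E) [Mono i] (hF : Coh.IsCoh F) (hE : Coh.IsCoh E) :
    Curv2.euler k X E = Curv2.euler k X F + Curv2.euler k X (cokernel i) := by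
  have := hF.1
  have hS : (ShortComplex.mk i (cokernel.π i) (cokernel.condition i)).ShortExact :=
    { exact := ShortComplex.exact_of_g_is_cokernel _ (cokernelIsCokernel i) }
  have hQ : Coh.IsCoh (cokernel i) := QCohMod.isCoh_cokernel i hE
  have h := euler_ses k hS hF hQ
  exact h

variable {L : X.Modules} (hL : CohB1.IsAmple L)

include hdim hL in
theorem exists_linear {F : X.Modules} (hF : Coh.IsCoh F) :
    ∃ P : ℚ[X], ShStab.IsHilbPoly k X L F P ∧ P.natDegree ≤ 1 ∧
      P.coeff 0 = (Curv2.euler k X F : ℚ) ∧ P.coeff 1 = (DecSh.mult k X L F : ℚ) := by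
  obtain ⟨P, hP, -⟩ := HilbStab.exists_hp k hL hF
  have hd : P.natDegree ≤ 1 := HilbStab.natDegree_le_of_support_subset k hL (d := 1) (E := F)
    ((SpectralTopology.dim_le_of_subset (Set.subset_univ _)).trans
      ((Homeomorph.Set.univ X).isHomeomorph.topologicalKrullDim_eq.le.trans hdim)) subset_rfl hF hP
  have he : ∀ m : ℕ, (Curv2.euler k X (ShStab.twist X L F m) : ℚ) = P.coeff 0 + P.coeff 1 * m := fun m => by
    rw [hP m]
    conv_lhs => rw [Polynomial.eq_X_add_C_of_natDegree_le_one hd]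
    simp; ring
  have t0 : Curv2.euler k X (ShStab.twist X L F 0) = Curv2.euler k X F :=
    EulerDeg.euler_congr k ((Inter.tensor_comm F _).some ≪≫ (Inter.tensor_one F).some)
  have t1 : Curv2.euler k X (ShStab.twist X L F 1) = Curv2.euler k X (CohB1.tensorMod F L) :=
    EulerDeg.euler_congr k (Inter.tensor_congr ⟨Iso.refl F⟩ (Inter.tensor_one L)).some
  have h0 := he 0
  have h1 := he 1
  rw [t0] at h0
  rw [t1] at h1
  refine ⟨P, hP, hd, by simpa using h0.symm, ?_⟩
  simp only [DecSh.mult, Int.cast_sub, h1, h0]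
  push_cast; ring

include hdim hL in
theorem euler_twist (hF : Coh.IsCoh F) (m : ℕ) :
    Curv2.euler k X (ShStab.twist X L F m) = Curv2.euler k X F + m * DecSh.mult k X L F := by
  obtain ⟨P, hP, hd, h0, h1⟩ := exists_linear k hdim hL hF
  have h := hP m
  rw [Polynomial.eq_X_add_C_of_natDegree_le_one hd, h0, h1] at h
  simp at h
  rw [add_comm, mul_comm] at h
  exact_mod_cast h

theorem mult_congr (e : F ≅ G) : DecSh.mult k X L F = DecSh.mult k X L G := by
  rw [DecSh.mult, DecSh.mult, EulerDeg.euler_congr k e,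
    EulerDeg.euler_congr k (Inter.tensor_congr ⟨e⟩ ⟨Iso.refl L⟩).some]

include hdim hL in
theorem mult_ses {S : ShortComplex X.Modules} (hS : S.ShortExact) (h₁ : Coh.IsCoh S.X₁)
    (h₂ : Coh.IsCoh S.X₂) (h₃ : Coh.IsCoh S.X₃) :
    DecSh.mult k X L S.X₂ = DecSh.mult k X L S.X₁ + DecSh.mult k X L S.X₃ := by
  obtain ⟨P₁, hP₁, -, -, c₁⟩ := exists_linear k hdim hL h₁
  obtain ⟨P₂, hP₂, -, -, c₂⟩ := exists_linear k hdim hL h₂
  obtain ⟨P₃, hP₃, -, -, c₃⟩ := exists_linear k hdim hL h₃
  have h := congrArg (fun P : ℚ[X] => P.coeff 1) (HilbStab.isHilbPoly_add k hL hS h₁ h₃ hP₁ hP₂ hP₃)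
  simp only [Polynomial.coeff_add, c₁, c₂, c₃] at h
  exact_mod_cast h

include hdim hL in
theorem mult_mono (i : F ⟶ E) [Mono i] (hF : Coh.IsCoh F) (hE : Coh.IsCoh E) :
    DecSh.mult k X L E = DecSh.mult k X L F + DecSh.mult k X L (cokernel i) := by
  have := hF.1
  have hS : (ShortComplex.mk i (cokernel.π i) (cokernel.condition i)).ShortExact :=
    { exact := ShortComplex.exact_of_g_is_cokernel _ (cokernelIsCokernel i) }
  have hQ : Coh.IsCoh (cokernel i) := QCohMod.isCoh_cokernel i hE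
  have h := mult_ses k hdim hL hS hF hE hQ
  exact h

include hdim hL in
theorem mult_nonneg (hF : Coh.IsCoh F) : 0 ≤ DecSh.mult k X L F := by
  obtain ⟨P, hP, hd, -, h1⟩ := exists_linear k hdim hL hF
  have h := HilbStab.alpha_nonneg_of_natDegree_le (d := 1) (HilbStab.nn_hilbPoly k hL hF hP) hd
  simp [StabCat.alpha, h1] at h
  exact h

include hdim hL in
theorem mult_pos_of_isPure (hp : ShStab.IsPure X E 1) (i : F ⟶ E) [Mono i] (hF : Coh.IsCoh F)
    (h0 : ¬ IsZero F) : 1 ≤ DecSh.mult k X L F := by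
  obtain ⟨P, hP, hd, -, h1⟩ := exists_linear k hdim hL hF
  have h := HilbStab.alpha_pos_of_isPure k hL hp i hF h0 hP
  simp [StabCat.alpha, h1] at h
  omega

include hdim hL in
theorem mult_le_of_mono (i : F ⟶ E) [Mono i] (hF : Coh.IsCoh F) (hE : Coh.IsCoh E) :
    DecSh.mult k X L F ≤ DecSh.mult k X L E := by
  have := hF.1
  have := mult_nonneg k hdim hL (QCohMod.isCoh_cokernel i hE)
  rw [mult_mono k hdim hL i hF hE]; omega

include hdim hL in
theorem mult_le_of_le (hE : Coh.IsCoh E) {P Q : Subobject E} (h : P ≤ Q) (hP : Coh.IsCoh (P : X.Modules))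
    (hQ : Coh.IsCoh (Q : X.Modules)) :
    DecSh.mult k X L (P : X.Modules) ≤ DecSh.mult k X L (Q : X.Modules) :=
  mult_le_of_mono k hdim hL (Subobject.ofLE P Q h) hP hQ

end Basic

end Groth.DecShCurve
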