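import Groth.Agent.DecShCurve.TorsFree
import Groth.Agent.DecShCurve.Avoid
import Groth.Agent.S15216

/-!
# A hyperplane section avoiding the generic points of a curve
-/

set_option autoImplicit false
set_option linter.style.haveILetI false
set_option backward.isDefEq.respectTransparency.types false

universe u

open CategoryTheory CategoryTheory.Limits AlgebraicGeometry TopologicalSpace

namespace Groth.DecShCurve

open Groth Groth.PicAux
open Groth.PropsBasic.Ample (gloc gloc_pullSec)

variable {X : Scheme.{u}}

/-- The generic points of the irreducible components. -/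
def genPts (X : Scheme.{u}) : Set X := {x | closure ({x} : Set X) ∈ irreducibleComponents X}

theorem finite_genPts [NoetherianSpace X] : (genPts X).Finite :=
  (NoetherianSpace.finite_irreducibleComponents (α := X)).preimage
    fun _ _ _ _ h => ((specializes_iff_mem_closure.2 (h ▸ subset_closure rfl)).antisymm
      (specializes_iff_mem_closure.2 (h.symm ▸ subset_closure rfl))).eq

/-- On a curve, points outside the generic ones are closed. -/
theorem isClosed_of_notMem_genPts (hdim : topologicalKrullDim X ≤ 1) {z : X} (hz : z ∉ genPts X) :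
    IsClosed ({z} : Set X) := by
  refine closure_eq_iff_isClosed.1 (Set.Subset.antisymm (fun y hy => by_contra fun hne => ?_) subset_closure)
  obtain ⟨η, hη⟩ := QuasiSober.sober (isIrreducible_irreducibleComponent (x := z)) isClosed_irreducibleComponent
  have hηz : η ⤳ z := hη.specializes mem_irreducibleComponent
  have hne' : ¬ z ⤳ η := fun h => hz (by
    show closure ({z} : Set X) ∈ irreducibleComponents X
    rw [(congrArg (fun a => closure ({a} : Set X)) (h.antisymm hηz).eq).trans hη.def]
    exact irreducibleComponent_mem_irreducibleComponents z)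
  let c : X → IrreducibleCloseds X := fun a => ⟨closure {a}, isIrreducible_singleton.closure, isClosed_closure⟩
  have hlt : ∀ {a b : X}, a ⤳ b → ¬ b ⤳ a → c b < c a := fun hab hba =>
    lt_of_le_not_ge (specializes_iff_closure_subset.1 hab) fun h => hba (specializes_iff_closure_subset.2 h)
  have hyz : ¬ y ⤳ z := fun h => hne ((h.antisymm (specializes_iff_mem_closure.2 hy)).eq)
  let l : LTSeries (IrreducibleCloseds X) :=
    ((RelSeries.singleton _ (c η)).cons (c z) (hlt hηz hne')).cons (c y)
      (by simpa using hlt (specializes_iff_mem_closure.2 hy) hyz)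
  have h2 : (2 : WithBot ℕ∞) ≤ 1 := (show ((2 : ℕ) : WithBot ℕ∞) ≤ _ from
    Order.LTSeries.length_le_krullDim l).trans hdim
  exact absurd h2 (by decide)

/-- Closed sets missing the generic points of a curve have dimension zero. -/
theorem dim_le_zero_of_disjoint [NoetherianSpace X] (hdim : topologicalKrullDim X ≤ 1) {S : Set X}
    (hS : IsClosed S) (h : ∀ x ∈ S, x ∉ genPts X) : topologicalKrullDim S ≤ 0 := by
  have hc : ∀ x ∈ S, IsClosed ({x} : Set X) := fun x hx => isClosed_of_notMem_genPts hdim (h x hx)
  have : Finite S := (finite_of_points_closed hS hc).to_subtype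
  have : T1Space S := ⟨fun x => by
    have := (hc x.1 x.2).preimage (continuous_subtype_val (p := (· ∈ S)))
    convert this using 1
    exact Set.ext fun y => ⟨fun e => congrArg Subtype.val (e : y = x), fun e => Subtype.ext (e : y.1 = x.1)⟩⟩
  rcases isEmpty_or_nonempty S with hE | hE
  · have : IsEmpty (IrreducibleCloseds S) := ⟨fun c => IsEmpty.false c.isIrreducible.1.some⟩
    rw [topologicalKrullDim, Order.krullDim_eq_bot]; exact bot_le
  · exact topologicalKrullDim_zero_of_discreteTopology S

variable (k : Type u) [Field k] [X.Over (Spec (CommRingCat.of k))]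
  [IsProper (X ↘ Spec (CommRingCat.of k))] {n : ℕ} (ι : X ⟶ CohB1.ProjSpace n k) [IsClosedImmersion ι]

/-- A section of `O(1)` generating at the generic points. -/
theorem exists_hyperplane [Infinite k] :
    ∃ t : Γ((Scheme.Modules.pullback ι).obj (Twist.twistProjSpace n k 1), (⊤ : X.Opens)),
      ∀ x ∈ genPts X, x ∈ gloc t := by
  have := Inter.isNoetherian k (X := X)
  have hT := PnCoh.isInvertible_twist n k 1
  refine exists_mem_gloc_finite
    ((X ↘ Spec (CommRingCat.of k)).appTop.hom.comp (Scheme.ΓSpecIso (CommRingCat.of k)).inv.hom)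
    (Misc13.NumTriv.isInvertible_tw k ι 1) (fun x => ?_) finite_genPts
  obtain ⟨t₀, ht₀⟩ := VarietyBC.GGen.exists_mem_gloc hT
    (Variety2.Reg.DetByGlobal.isGloballyGenerated (Variety2.Reg.detByGlobal_twist (n := n) (k := k) 1)) (ι x)
  exact ⟨pullSec ι _ t₀, (gloc_pullSec ι hT t₀).symm ▸ ht₀⟩

end Groth.DecShCurve
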