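import Groth.Agent.DecShCurve.Alpha
import Groth.Agent.DecShCurve.Hyperplane

/-!
# Pure sheaves on a curve with bounded Euler characteristics of subsheaves
-/

set_option autoImplicit false
set_option linter.style.haveILetI false
set_option backward.isDefEq.respectTransparency.types false

universe u

open CategoryTheory CategoryTheory.Limits AlgebraicGeometry Polynomial

namespace Groth.DecShCurve

open Groth Groth.PicAux Groth.HilbStab
open Groth.PropsBasic.Ample (gloc)

variable (k : Type u) [Field k] {X : Scheme.{u}} [X.Over (Spec (CommRingCat.of k))]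
  [IsProper (X ↘ Spec (CommRingCat.of k))] (hdim : topologicalKrullDim X ≤ 1)
  {n : ℕ} (ι : X ⟶ CohB1.ProjSpace n k) [IsClosedImmersion ι]
  (hι : ι ≫ CohB1.ProjSpace.toSpec n k = X ↘ Spec (CommRingCat.of k))
  {L : X.Modules} (hL : Nonempty (L ≅ (Scheme.Modules.pullback ι).obj (Twist.twistProjSpace n k 1)))
  (hLa : CohB1.IsAmple L)

local notation "α" => DecSh.mult k X L
local notation "χ" => Curv2.euler k X

include hdim hι hL hLa in
theorem euler_twistOn {F : X.Modules} (hF : Coh.IsCoh F) (d : ℤ) :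
    χ (Pic13.twistOn k ι F d) = χ F + d * α F := by
  obtain ⟨P, hP, hd, h0, h1⟩ := exists_linear k hdim hLa hF
  have h := Agent.S15216.exists_poly_int k ι hι hL hF hP d
  rw [Polynomial.eq_X_add_C_of_natDegree_le_one hd, h0, h1] at h
  simp at h
  rw [add_comm, mul_comm] at h
  exact_mod_cast h

include hdim hι hL hLa in
theorem mult_twistOn {F : X.Modules} (hF : Coh.IsCoh F) (d : ℤ) :
    α (Pic13.twistOn k ι F d) = α F := by
  have h1 := euler_twistOn k hdim ι hι hL hLa (Misc13.NumTriv.isCoh_twistOn k ι hF d) 1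
  rw [EulerDeg.euler_congr k (Misc13.NumTriv.twistOn_add k ι F (rfl : d + 1 = d + 1)).some,
    euler_twistOn k hdim ι hι hL hLa hF, euler_twistOn k hdim ι hι hL hLa hF] at h1
  linarith

theorem support_twistOn (F : X.Modules) (d : ℤ) :
    CohB1.support (Pic13.twistOn k ι F d) = CohB1.support F := by
  let N := (Scheme.Modules.pullback ι).obj (Twist.twistProjSpace n k d)
  have hN : PicF.IsInvertible N := Misc13.NumTriv.isInvertible_tw k ι d
  refine Set.Subset.antisymm (HilbStab.support_tensorMod_subset hN F) (fun x hx h => hx ?_)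
  exact ((Inter.exists_stalk_equiv_twist hN F x).some.toEquiv.trans
    ((QCohMod.stalk x).mapIso (Inter.tensor_comm N F).some).addCommGroupIsoToAddEquiv.toEquiv).subsingleton_congr.2 h

theorem isZero_twistOn_iff (F : X.Modules) (d : ℤ) : IsZero (Pic13.twistOn k ι F d) ↔ IsZero F := by
  rw [QCohMod.isZero_iff_support_eq_empty, QCohMod.isZero_iff_support_eq_empty, support_twistOn]

/-- Transport a submodule of a twist back. -/
theorem exists_untwist {d : ℤ} {F G : X.Modules} (f : G ⟶ Pic13.twistOn k ι F (-d)) [Mono f] :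
    ∃ f' : Pic13.twistOn k ι G d ⟶ F, Mono f' := by
  let N := (Scheme.Modules.pullback ι).obj (Twist.twistProjSpace n k d)
  haveI := PicAux.isEquivalence_tensorRightMod_of_isInvertible (L := N) (Misc13.NumTriv.isInvertible_tw k ι d)
  let e : (DCoh.tensorRightMod N).obj (Pic13.twistOn k ι F (-d)) ≅ F :=
    (Misc13.NumTriv.twistOn_add k ι F (show -d + d = 0 by ring)).some ≪≫
      (Misc13.NumTriv.twistOn_zero k ι F).some
  let a : (DCoh.tensorRightMod N).obj G ⟶ F := (DCoh.tensorRightMod N).map f ≫ e.hom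
  have hm := (DCoh.tensorRightMod N).map_mono f
  exact ⟨a, @mono_comp _ _ _ _ _ _ hm _ inferInstance⟩

theorem isPure_twistOn {E : X.Modules} (hp : ShStab.IsPure X E 1) (d : ℤ) :
    ShStab.IsPure X (Pic13.twistOn k ι E d) 1 := by
  intro G f hf hG h0
  obtain ⟨f', hf'⟩ := exists_untwist (d := -d) k ι (F := E)
    (f ≫ (eqToIso (by rw [neg_neg]) : Pic13.twistOn k ι E d ≅ Pic13.twistOn k ι E (-(-d))).hom)
  rw [← support_twistOn k ι G (-d)]
  exact hp _ f' hf' (Misc13.NumTriv.isCoh_twistOn k ι hG _) (fun h => h0 ((isZero_twistOn_iff k ι G _).1 h))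

include hdim hι hL hLa in
/-- No sections of `E(-j)` when the Euler characteristics of subsheaves are small. -/
theorem subsingleton_h0_twistOn {E : X.Modules} (hE : Coh.IsCoh E) (j : ℤ)
    (hC : ∀ (G : X.Modules) (i : G ⟶ E), Mono i → Coh.IsCoh G → ¬ IsZero G →
      χ G + (Module.finrank k (Coh.HH X (Coh.structureModule X) 1) : ℤ) < j * α G) :
    Subsingleton (Coh.HH X (Pic13.twistOn k ι E (-j)) 0) := by
  have hN := Inter.isNoetherian k (X := X)
  refine (EulerDeg.h0Equiv k _).toEquiv.subsingleton_congr.2 ⟨fun a b => ?_⟩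
  suffices key : ∀ z : Γ(Pic13.twistOn k ι E (-j), (⊤ : X.Opens)), z = 0 from (key a).trans (key b).symm
  intro s
  by_contra hs
  let φ := PicAux.homOfSection s
  have hO : Coh.IsCoh (Coh.structureModule X) :=
    Inter.isCoh_of_isInvertible (EulerDeg.isInvertible_structureModule X)
  have hE' := Misc13.NumTriv.isCoh_twistOn k ι hE (-j)
  haveI := hE'.1
  haveI := hO.1
  have hI : Coh.IsCoh (Abelian.image φ) := by
    haveI := QCohMod.isQCoh_cokernel φ
    exact QCohMod.isCoh_kernel (cokernel.π φ) hE'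
  have hI0 : ¬ IsZero (Abelian.image φ) := fun h => hs (by
    have h' : φ = 0 := by rw [← Abelian.image.fac φ, h.eq_of_src (Abelian.image.ι φ) 0, Limits.comp_zero]
    rw [← PicAux.homOfSection_one s]
    exact (congrArg (fun g => Scheme.Modules.Hom.app g ⊤ (PicAux.oneSec X ⊤)) h').trans rfl)
  obtain ⟨f', hf'⟩ := exists_untwist (d := j) k ι (F := E) (Abelian.image.ι φ)
  have h := hC _ f' hf' (Misc13.NumTriv.isCoh_twistOn k ι hI j)
    (fun h => hI0 ((isZero_twistOn_iff k ι _ j).1 h))
  rw [euler_twistOn k hdim ι hι hL hLa hI, mult_twistOn k hdim ι hι hL hLa hI] at h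
  have h1 := euler_ge_neg_h1 k hdim (Abelian.image φ)
  have h2 := h1_le_of_epi k hdim (Abelian.factorThruImage φ) hO
  omega

include hdim in
/-- A hyperplane section of a pure sheaf. -/
theorem exists_step [Infinite k] {E : X.Modules} (hE : Coh.IsCoh E) (hp : ShStab.IsPure X E 1) :
    ∃ i : Pic13.twistOn k ι E (-1) ⟶ E, Mono i ∧ topologicalKrullDim (CohB1.support (cokernel i)) ≤ 0 := by
  have hN := Inter.isNoetherian k (X := X)
  obtain ⟨t, ht⟩ := exists_hyperplane k ι
  let E₁ := Pic13.twistOn k ι E (-1)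
  let N1 := (Scheme.Modules.pullback ι).obj (Twist.twistProjSpace n k 1)
  have hN1 : PicF.IsInvertible N1 := Misc13.NumTriv.isInvertible_tw k ι 1
  have hE₁ : Coh.IsCoh E₁ := Misc13.NumTriv.isCoh_twistOn k ι hE _
  haveI := hE₁.1
  haveI := (RefRank.isCoh_tensorMod hE₁ (Inter.isCoh_of_isInvertible hN1)).1
  let e₀ : CohB1.tensorMod E₁ N1 ≅ E :=
    (Misc13.NumTriv.twistOn_add k ι E (show (-1 : ℤ) + 1 = 0 by norm_num)).some ≪≫
      (Misc13.NumTriv.twistOn_zero k ι E).some
  have hK : Coh.IsCoh (kernel (mulSec t E₁)) := QCohMod.isCoh_kernel _ hE₁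
  have hz : IsZero (kernel (mulSec t E₁)) := by
    by_contra h0
    have h1 := isPure_twistOn k ι hp (-1) _ (kernel.ι (mulSec t E₁)) inferInstance hK h0
    have h2 := dim_le_zero_of_disjoint hdim (CohTwo.isClosed_support _ hK)
      (fun x hx hg => support_kernel_mulSec_subset t E₁ hx (ht x hg))
    rw [h1] at h2
    exact absurd h2 (by decide)
  haveI : Mono (mulSec t E₁) := Preadditive.mono_of_kernel_zero (hz.eq_of_src _ _)
  refine ⟨mulSec t E₁ ≫ e₀.hom, mono_comp _ _, ?_⟩
  have hQ : Coh.IsCoh (cokernel (mulSec t E₁ ≫ e₀.hom)) := QCohMod.isCoh_cokernel _ hE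
  exact dim_le_zero_of_disjoint hdim (CohTwo.isClosed_support _ hQ) (fun x hx hg =>
    support_cokernel_mulSec_subset t E₁
      (Misc13.NumTriv.support_subset_of_iso (cokernelCompIsIso (mulSec t E₁) e₀.hom) hx) (ht x hg))

include hdim hι hL hLa in
theorem h0_step [Infinite k] {E : X.Modules} (hE : Coh.IsCoh E) (hp : ShStab.IsPure X E 1) :
    (Module.finrank k (Coh.HH X E 0) : ℤ) ≤
      (Module.finrank k (Coh.HH X (Pic13.twistOn k ι E (-1)) 0) : ℤ) + α E := by
  have hN := Inter.isNoetherian k (X := X)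
  obtain ⟨i, hi, hd⟩ := exists_step k hdim ι hE hp
  have hE₁ := Misc13.NumTriv.isCoh_twistOn k ι hE (-1)
  haveI := hE₁.1
  have hQ : Coh.IsCoh (cokernel i) := QCohMod.isCoh_cokernel i hE
  haveI := hQ.1
  have := EulerDeg.noetherianSpace_of_proper k X
  have hχ : (Module.finrank k (Coh.HH X (cokernel i) 0) : ℤ) = α E := by
    rw [← EulerDeg.euler_eq_h0 k (EulerDeg.supportedAtClosed_of_dim_le_zero hd)]
    have := euler_mono k i hE₁ hE
    rw [euler_twistOn k hdim ι hι hL hLa hE] at this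
    linarith
  have hS : (ShortComplex.mk i (cokernel.π i) (cokernel.condition i)).ShortExact :=
    { exact := ShortComplex.exact_of_g_is_cokernel _ (cokernelIsCokernel i) }
  have := EulerDeg.finite_HH k X hE 0
  have := EulerDeg.finite_HH k X hQ 0
  have := EulerDeg.finite_HH k X hE₁ 0
  have hex := LinearMap.exact_iff.1 (EulerDeg.exact_mid k hS 0)
  have h1 := LinearMap.finrank_range_add_finrank_ker (EulerDeg.hMap k (cokernel.π i) 0)
  have h2 := Submodule.finrank_le (LinearMap.range (EulerDeg.hMap k (cokernel.π i) 0))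
  have h3 := LinearMap.finrank_range_le (EulerDeg.hMap k i 0)
  have h4 : Module.finrank k (LinearMap.ker (EulerDeg.hMap k (cokernel.π i) 0)) =
      Module.finrank k (LinearMap.range (EulerDeg.hMap k i 0)) := by rw [hex]
  omega

include hdim hι hL hLa in
/-- The estimate of `h⁰` of a pure sheaf. -/
theorem h0_twistOn_le [Infinite k] {E : X.Modules} (hE : Coh.IsCoh E) (hp : ShStab.IsPure X E 1)
    {j : ℤ} (h : Subsingleton (Coh.HH X (Pic13.twistOn k ι E (-j)) 0)) (d : ℤ) :
    (Module.finrank k (Coh.HH X (Pic13.twistOn k ι E d) 0) : ℤ) ≤ max 0 (d + j) * α E := by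
  have hα : 0 ≤ α E := mult_nonneg k hdim hLa hE
  have step : ∀ d : ℤ, (Module.finrank k (Coh.HH X (Pic13.twistOn k ι E d) 0) : ℤ) ≤
      (Module.finrank k (Coh.HH X (Pic13.twistOn k ι E (d - 1)) 0) : ℤ) + α E := fun d => by
    have := h0_step k hdim ι hι hL hLa (Misc13.NumTriv.isCoh_twistOn k ι hE d) (isPure_twistOn k ι hp d)
    rwa [mult_twistOn k hdim ι hι hL hLa hE,
      EulerDeg.finrank_congr (k := k) (Misc13.NumTriv.twistOn_add k ι E (show d + -1 = d - 1 by ring)).some] at this
  have z : ∀ N : ℕ, (Module.finrank k (Coh.HH X (Pic13.twistOn k ι E (-j + N)) 0) : ℤ) ≤ N * α E := by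
    intro N
    induction N with
    | zero =>
      rw [Nat.cast_zero, add_zero, Module.finrank_zero_of_subsingleton]
      simp
    | succ N ih =>
      have := step (-j + (N + 1 : ℕ))
      rw [show -j + ((N + 1 : ℕ) : ℤ) - 1 = -j + N by push_cast; ring] at this
      push_cast at this ⊢
      linarith
  rcases le_or_gt 0 (d + j) with hd | hd
  · obtain ⟨N, hN⟩ := Int.eq_ofNat_of_zero_le hd
    have := z N
    rw [show -j + (N : ℤ) = d by omega] at this
    rwa [max_eq_right hd, hN]
  · rw [max_eq_left hd.le, zero_mul]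
    obtain ⟨N, hN⟩ : ∃ N : ℕ, -j = d + N := ⟨(-j - d).toNat, by omega⟩
    have hmono : ∀ N : ℕ, ∀ d : ℤ, Subsingleton (Coh.HH X (Pic13.twistOn k ι E (d + N)) 0) →
        Module.finrank k (Coh.HH X (Pic13.twistOn k ι E d) 0) = 0 := by
      intro N
      induction N with
      | zero => intro d h; simp at h; exact Module.finrank_zero_of_subsingleton
      | succ N ih =>
        intro d h
        have h1 := ih (d + 1) (by rwa [show d + 1 + (N : ℤ) = d + (N + 1 : ℕ) by push_cast; ring])
        obtain ⟨i, hi, -⟩ := exists_step k hdim ι (Misc13.NumTriv.isCoh_twistOn k ι hE (d + 1))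
          (isPure_twistOn k ι hp (d + 1))
        have h2 := h0_le_of_mono k i (Misc13.NumTriv.isCoh_twistOn k ι hE (d + 1))
        rw [EulerDeg.finrank_congr (k := k)
          (Misc13.NumTriv.twistOn_add k ι E (show d + 1 + -1 = d by ring)).some, h1] at h2
        omega
    rw [hmono N d (hN ▸ h)]
    simp

include hdim hι hL hLa in
/-- Uniform regularity. -/
theorem isMRegular_of_bound [Infinite k] {E : X.Modules} (hE : Coh.IsCoh E) (hp : ShStab.IsPure X E 1)
    {j : ℤ} (h : Subsingleton (Coh.HH X (Pic13.twistOn k ι E (-j)) 0)) :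
    Pic13.IsMRegular k ι E (-j + 1 + (j * α E - χ E)) := by
  have hN : IsNoetherian X := Inter.isNoetherian k
  obtain ⟨i₀, hi₀, hd⟩ := exists_step k hdim ι hE hp
  let E₁ := Pic13.twistOn k ι E (-1)
  have hE₁ : Coh.IsCoh E₁ := Misc13.NumTriv.isCoh_twistOn k ι hE _
  haveI := hE₁.1
  let Q := cokernel i₀
  have hQ : Coh.IsCoh Q := QCohMod.isCoh_cokernel i₀ hE
  haveI := hQ.1
  haveI := hE.1
  have hQreg : Pic13.IsMRegular k ι Q (-j + 1) := Agent.S15216.reg_of_support_zero k ι hd hQ _
  -- on projective space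
  let S := ShortComplex.mk i₀ (cokernel.π i₀) (cokernel.condition i₀)
  have hS : S.ShortExact := Variety2.Reg.cokernel_shortExact i₀
  haveI : S.X₁.IsQuasicoherent := hE₁.1
  haveI : S.X₂.IsQuasicoherent := hE.1
  haveI : S.X₃.IsQuasicoherent := hQ.1
  have hPs := KTheory.PushProps.shortExact_push ι hS
  obtain ⟨θ, -⟩ := PnCoh.exists_projectionFormula ι E (PnCoh.isInvertible_twist n k (-1))
  let i' : CohB1.tensorMod (Variety2.Reg.pF ι E) (Twist.twistProjSpace n k (-1)) ⟶ Variety2.Reg.pF ι E :=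
    θ.hom ≫ (S.map (Scheme.Modules.pushforward ι)).f
  haveI : Mono i' := @mono_comp _ _ _ _ _ θ.hom inferInstance _ hPs.mono_f
  let cc : cokernel i' ≅ Variety2.Reg.pF ι Q :=
    cokernelEpiComp θ.hom (S.map (Scheme.Modules.pushforward ι)).f ≪≫
      (cokernelIsCokernel _).coconePointUniqueUpToIso hPs.gIsCokernel
  have hreg : Curv2.IsMRegular k n (cokernel i') (-j + 1) := fun q hq hqn =>
    Variety2.Reg.subsingleton_of_iso (X := CohB1.ProjSpace n k) k
      (Inter.tensor_congr ⟨cc⟩ ⟨Iso.refl (Twist.twistProjSpace n k (-j + 1 - q))⟩).some.symm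
      (Variety2.Reg.mReg_pF ι _ hQreg q hq hqn)
  obtain ⟨-, -, f3⟩ := Variety2.Reg.cokernel_twist_facts (Variety2.Reg.isCoh_pF ι E hE) i' hreg
  rw [Misc13.NumTriv.finrank_twistOn k ι hι, show -j + 1 - 1 = -j by ring] at f3
  have hdim2 : ∀ (d : ℤ) (q : ℕ), 2 ≤ q → Subsingleton (Coh.HH X (Pic13.twistOn k ι E d) q) := fun d q hq =>
    have := EulerDeg.noetherianSpace_of_proper k X
    EulerDeg.subsingleton_HH_of_dim_le_one X hdim _ q hq
  have hh1 : (Module.finrank k (Coh.HH X (Pic13.twistOn k ι E (-j)) 1) : ℤ) = j * α E - χ E := by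
    have h2 := euler_twistOn k hdim ι hι hL hLa hE (-j)
    rw [EulerDeg.euler_eq_h0_sub_h1 k X hdim, Module.finrank_zero_of_subsingleton (M := Coh.HH X _ 0)] at h2
    push_cast at h2
    linarith
  intro q hq
  rcases (show q = 1 ∨ 2 ≤ q by omega) with rfl | hq2
  · exact (Variety2.Reg.subsingleton_twistOn_iff ι E _ 1).2 (f3 _ (by omega))
  · exact hdim2 _ q hq2

include hdim hι hL hLa in
/-- Pure sheaves with given invariants and bounded subsheaves form a bounded family. -/
theorem isBounded_pure [Infinite k] (a e C : ℤ) :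
    Pic13.IsBounded k X (fun E => Coh.IsCoh E ∧ ShStab.IsPure X E 1 ∧ α E = a ∧ χ E = e ∧
      ∀ (G : X.Modules) (i : G ⟶ E), Mono i → Coh.IsCoh G → χ G ≤ C) := by
  let j : ℤ := max C 0 + (Module.finrank k (Coh.HH X (Coh.structureModule X) 1) : ℤ) + 1
  refine Pic13Aux.isBounded_mono
    (Pic13Aux.isBounded_mRegular k n X ι hι (-j + 1 + (j * a - e))
      (Polynomial.C (e : ℚ) + Polynomial.C (a : ℚ) * Polynomial.X)) fun E ⟨hE, hp, ha, he, hC⟩ => ?_
  refine ⟨hE, ?_, fun d => ?_⟩
  · rw [← ha, ← he]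
    refine isMRegular_of_bound k hdim ι hι hL hLa hE hp
      (subsingleton_h0_twistOn k hdim ι hι hL hLa hE j fun G i hi hG h0 => ?_)
    have h1 := mult_pos_of_isPure k hdim hLa hp i hG h0
    have h2 := hC G i hi hG
    nlinarith [le_max_left C 0, le_max_right C 0, mul_nonneg (show (0 : ℤ) ≤ j from by positivity) (show (0:ℤ) ≤ α G - 1 by omega)]
  · rw [← Pic13Aux.euler_twistOn_eq ι hE d, euler_twistOn k hdim ι hι hL hLa hE, ha, he]
    simp; ring

end Groth.DecShCurve
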