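import Groth.Agent.DecShCurve.Core
import Groth.Agent.RelVA.PnData
import Groth.Agent.Chow.VeryAmplePn
import Groth.Agent.CohC3.GradedVanishing

/-!
# Comparing the twists of a pure sheaf by powers of an ample module
-/

set_option autoImplicit false
set_option linter.style.haveILetI false
set_option backward.isDefEq.respectTransparency.types false

universe u

open CategoryTheory CategoryTheory.Limits AlgebraicGeometry

namespace Groth.DecShCurve

open Groth Groth.PicAux Groth.HilbStab
open Groth.PropsBasic.Ample (gloc)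

variable (k : Type u) [Field k] [Infinite k] {X : Scheme.{u}} [X.Over (Spec (CommRingCat.of k))]
  [IsProper (X ↘ Spec (CommRingCat.of k))] (hdim : topologicalKrullDim X ≤ 1)
  {L : X.Modules} (hL : CohB1.IsAmple L)

include k hL in
/-- High powers have sections generating at any given finite set. -/
theorem exists_section_pow :
    ∃ i₀ : ℕ, ∀ i, i₀ ≤ i →
      (∀ x : X, ∃ t : Γ(CohB1.tensorPow L i, (⊤ : X.Opens)), x ∈ gloc t) ∧
      ∃ t : Γ(CohB1.tensorPow L i, (⊤ : X.Opens)), ∀ x ∈ genPts X, x ∈ gloc t := by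
  have := Inter.isNoetherian k (X := X)
  obtain ⟨i₀, hi₀⟩ := Groth.Chow.exists_isRelVeryAmplePn (X ↘ Spec (CommRingCat.of k)) hL
  refine ⟨i₀, fun i hi => ?_⟩
  obtain ⟨m, s, hs⟩ := RelVA.hasPnData_of_pn (hi₀ i hi)
  have h1 : ∀ x : X, ∃ t : Γ(CohB1.tensorPow L i, (⊤ : X.Opens)), x ∈ gloc t := fun x => by
    obtain ⟨j, hj, -⟩ := hs x
    exact ⟨s j, hj⟩
  exact ⟨h1, exists_mem_gloc_finite
    ((X ↘ Spec (CommRingCat.of k)).appTop.hom.comp (Scheme.ΓSpecIso (CommRingCat.of k)).inv.hom)
    (PicAux.isInvertible_tensorPow hL.1 i) h1 finite_genPts⟩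

variable {G : X.Modules} (hG : Coh.IsCoh G) (hp : ShStab.IsPure X G 1)

include k hdim hL hG hp in
/-- Multiplication by a general section between twists. -/
theorem exists_mono_twist {i : ℕ}
    (hi : ∃ t : Γ(CohB1.tensorPow L i, (⊤ : X.Opens)), ∀ x ∈ genPts X, x ∈ gloc t) (n : ℕ) :
    ∃ f : ShStab.twist X L G n ⟶ ShStab.twist X L G (n + i),
      Mono f ∧ topologicalKrullDim (CohB1.support (cokernel f)) ≤ 0 := by
  have := Inter.isNoetherian k (X := X)
  obtain ⟨t, ht⟩ := hi
  let M := CohB1.tensorPow L i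
  let N := CohB1.tensorPow L n
  have hM : PicF.IsInvertible M := PicAux.isInvertible_tensorPow hL.1 i
  have hN : PicF.IsInvertible N := PicAux.isInvertible_tensorPow hL.1 n
  haveI := hG.1
  haveI := (RefRank.isCoh_tensorMod hG (Inter.isCoh_of_isInvertible hM)).1
  have hz : IsZero (kernel (mulSec t G)) := by
    by_contra h0
    have hK : Coh.IsCoh (kernel (mulSec t G)) := QCohMod.isCoh_kernel _ hG
    have h1 := hp _ (kernel.ι (mulSec t G)) inferInstance hK h0
    have h2 := dim_le_zero_of_disjoint hdim (CohTwo.isClosed_support _ hK)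
      (fun x hx hg => support_kernel_mulSec_subset t G hx (ht x hg))
    rw [h1] at h2
    exact absurd h2 (by decide)
  haveI : Mono (mulSec t G) := Preadditive.mono_of_kernel_zero (hz.eq_of_src _ _)
  haveI := PicAux.isEquivalence_tensorRightMod_of_isInvertible (L := N) hN
  let e : (DCoh.tensorRightMod N).obj (CohB1.tensorMod G M) ≅ ShStab.twist X L G (n + i) :=
    (Inter.tensor_assoc G M N).some ≪≫
      (Inter.tensor_congr ⟨Iso.refl G⟩ ⟨(Inter.tensor_comm M N).some ≪≫
        (PicAux.tensorPow_add L n i).some.symm⟩).some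
  let f₀ : (DCoh.tensorRightMod N).obj G ⟶ (DCoh.tensorRightMod N).obj (CohB1.tensorMod G M) :=
    (DCoh.tensorRightMod N).map (mulSec t G)
  have hm : Mono f₀ := (DCoh.tensorRightMod N).map_mono _
  refine ⟨f₀ ≫ e.hom, @mono_comp _ _ _ _ _ _ hm _ inferInstance, ?_⟩
  have hsub : CohB1.support (cokernel (f₀ ≫ e.hom)) ⊆ CohB1.support (cokernel (mulSec t G)) := fun x hx =>
    HilbStab.support_tensorMod_subset hN _
      (Misc13.NumTriv.support_subset_of_iso ((cokernelCompIsIso f₀ e.hom) ≪≫
        (PreservesCokernel.iso (DCoh.tensorRightMod N) (mulSec t G)).symm) hx)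
  have hc : Coh.IsCoh (cokernel (mulSec t G)) :=
    QCohMod.isCoh_cokernel _ (RefRank.isCoh_tensorMod hG (Inter.isCoh_of_isInvertible hM))
  exact (SpectralTopology.dim_le_of_subset hsub).trans (dim_le_zero_of_disjoint hdim
    (CohTwo.isClosed_support _ hc) (fun x hx hg => support_cokernel_mulSec_subset t G hx (ht x hg)))

include k hdim hL hG hp in
theorem h0_twist_mono {i : ℕ}
    (hi : ∃ t : Γ(CohB1.tensorPow L i, (⊤ : X.Opens)), ∀ x ∈ genPts X, x ∈ gloc t) (n : ℕ) :
    Module.finrank k (Coh.HH X (ShStab.twist X L G n) 0) ≤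
      Module.finrank k (Coh.HH X (ShStab.twist X L G (n + i)) 0) := by
  obtain ⟨f, hf, -⟩ := exists_mono_twist k hdim hL hG hp hi n
  exact h0_le_of_mono k f
    (RefRank.isCoh_tensorMod hG (Inter.isCoh_of_isInvertible (PicAux.isInvertible_tensorPow hL.1 _)))

include k hdim hL hG hp in
theorem subsingleton_h1_twist {i : ℕ}
    (hi : ∃ t : Γ(CohB1.tensorPow L i, (⊤ : X.Opens)), ∀ x ∈ genPts X, x ∈ gloc t) (n : ℕ)
    (h : Subsingleton (Coh.HH X (ShStab.twist X L G n) 1)) :
    Subsingleton (Coh.HH X (ShStab.twist X L G (n + i)) 1) := by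
  have := Inter.isNoetherian k (X := X)
  obtain ⟨f, hf, hd⟩ := exists_mono_twist k hdim hL hG hp hi n
  have hc : Coh.IsCoh (ShStab.twist X L G (n + i)) :=
    RefRank.isCoh_tensorMod hG (Inter.isCoh_of_isInvertible (PicAux.isInvertible_tensorPow hL.1 _))
  haveI : (ShStab.twist X L G n).IsQuasicoherent :=
    (RefRank.isCoh_tensorMod hG (Inter.isCoh_of_isInvertible (PicAux.isInvertible_tensorPow hL.1 n))).1
  have hQ : Coh.IsCoh (cokernel f) := QCohMod.isCoh_cokernel f hc
  haveI := hQ.1
  have h3 : Subsingleton (Coh.HH X (cokernel f) 1) :=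
    EulerDeg.subsingleton_HH_of_supportedAtClosed (EulerDeg.supportedAtClosed_of_dim_le_zero hd) 1 le_rfl
  have hS : (ShortComplex.mk f (cokernel.π f) (cokernel.condition f)).ShortExact :=
    { exact := ShortComplex.exact_of_g_is_cokernel _ (cokernelIsCokernel f) }
  refine subsingleton_of_forall_eq 0 fun v => ?_
  obtain ⟨w, hw⟩ := (EulerDeg.exact_mid k hS 1 v).1 (@Subsingleton.elim _ h3 _ _)
  rw [← hw, @Subsingleton.elim _ h w 0, map_zero]

end Groth.DecShCurve
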