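import Groth.Agent.DecShCurve.Alpha
import Groth.Agent.CohC3.GradedVanishing

/-!
# Bounds for μ of a tensor field on a curve
-/

set_option autoImplicit false
set_option linter.style.haveILetI false
set_option backward.isDefEq.respectTransparency.types false

universe u

open CategoryTheory CategoryTheory.Limits AlgebraicGeometry

namespace Groth.DecShCurve

open Groth

variable (k : Type u) [Field k] {X : Scheme.{u}} [X.Over (Spec (CommRingCat.of k))]
  [IsProper (X ↘ Spec (CommRingCat.of k))] (hdim : topologicalKrullDim X ≤ 1)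
  {L : X.Modules} (hL : CohB1.IsAmple L) {E : X.Modules} (hE : Coh.IsCoh E) (hp : ShStab.IsPure X E 1)

local notation "αE" => DecSh.mult k X L E

variable {D : X.Modules} {a b : ℕ} (T : DecSh.TF E a b D) (𝓕 : DecSh.WFilt E)
  (hcoh : ∀ i, Coh.IsCoh ((𝓕.piece i : Subobject E) : X.Modules))

include hdim hL hE hp hcoh in
theorem piece_mult (i : Fin 𝓕.t) :
    1 ≤ DecSh.mult k X L ((𝓕.piece i : Subobject E) : X.Modules) ∧
      DecSh.mult k X L ((𝓕.piece i : Subobject E) : X.Modules) ≤ αE :=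
  ⟨mult_pos_of_isPure k hdim hL hp (𝓕.piece i).arrow (hcoh i) (𝓕.piece_nonzero i),
    mult_le_of_mono k hdim hL (𝓕.piece i).arrow (hcoh i) hE⟩

include hdim hL hE hp hcoh in
/-- Each term of the weight is bounded; it vanishes at full multiplicity. -/
theorem term_bound (I : Fin a → Fin (𝓕.t + 1)) (i : Fin 𝓕.t) :
    |(a : ℚ) * (DecSh.mult k X L ((𝓕.piece i : Subobject E) : X.Modules) : ℚ) -
        (𝓕.nu αE (fun P => DecSh.mult k X L (P : X.Modules)) I i : ℚ) * (αE : ℚ)| ≤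
      (a : ℚ) * ((αE : ℚ) - 1) := by
  obtain ⟨h1, h2⟩ := piece_mult k hdim hL hE hp 𝓕 hcoh i
  have hν : 𝓕.nu αE (fun P => DecSh.mult k X L (P : X.Modules)) I i ≤ a :=
    (Finset.card_filter_le _ _).trans (by simp)
  have hq1 : (1 : ℚ) ≤ (DecSh.mult k X L ((𝓕.piece i : Subobject E) : X.Modules) : ℚ) := by exact_mod_cast h1
  have hq2 : (DecSh.mult k X L ((𝓕.piece i : Subobject E) : X.Modules) : ℚ) ≤ (αE : ℚ) := by exact_mod_cast h2
  have hνq : (𝓕.nu αE (fun P => DecSh.mult k X L (P : X.Modules)) I i : ℚ) ≤ (a : ℚ) := by exact_mod_cast hν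
  rcases eq_or_lt_of_le h2 with heq | hlt
  · have : 𝓕.nu αE (fun P => DecSh.mult k X L (P : X.Modules)) I i = a := by
      refine le_antisymm hν (le_of_eq_of_le (by simp) (Finset.card_le_card (s := Finset.univ) fun j _ => ?_))
      refine Finset.mem_filter.2 ⟨Finset.mem_univ _, ?_⟩
      simp only
      rw [heq]
      induction I j using Fin.lastCases with
      | last => simp
      | cast l => simpa using (piece_mult k hdim hL hE hp 𝓕 hcoh l).2
    rw [this, heq]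
    simp only [sub_self, abs_zero]
    nlinarith
  · have hlt' : (DecSh.mult k X L ((𝓕.piece i : Subobject E) : X.Modules) : ℚ) ≤ (αE : ℚ) - 1 := by
      have : DecSh.mult k X L ((𝓕.piece i : Subobject E) : X.Modules) ≤ αE - 1 := by omega
      exact_mod_cast this
    rw [abs_le]
    have hν0 : (0 : ℚ) ≤ (𝓕.nu αE (fun P => DecSh.mult k X L (P : X.Modules)) I i : ℚ) := Nat.cast_nonneg _
    constructor <;> nlinarith

include hdim hL hE hp hcoh in
theorem abs_gam_le (I : Fin a → Fin (𝓕.t + 1)) :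
    |𝓕.gam αE (fun P => DecSh.mult k X L (P : X.Modules)) I| ≤
      (∑ i, 𝓕.wt i) * (a : ℚ) * ((αE : ℚ) - 1) := by
  rw [mul_assoc, Finset.sum_mul]
  refine (Finset.abs_sum_le_sum_abs _ _).trans (Finset.sum_le_sum fun i _ => ?_)
  rw [abs_mul, abs_of_pos (𝓕.wt_pos i)]
  exact mul_le_mul_of_nonneg_left (term_bound k hdim hL hE hp 𝓕 hcoh I i) (𝓕.wt_pos i).le

include hdim hL hE hp hcoh in
theorem abs_mu_le : |T.mu k L 𝓕| ≤ (∑ i, 𝓕.wt i) * (a : ℚ) * ((αE : ℚ) - 1) := by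
  obtain ⟨I, -, hI⟩ := 𝓕.exists_gam_eq_mu αE (fun P => DecSh.mult k X L (P : X.Modules)) T.nv
  rw [DecSh.TF.mu, ← hI]
  exact abs_gam_le k hdim hL hE hp 𝓕 hcoh I

include hdim hL hE hp in
/-- The one-step consequence of δ-semistability. -/
theorem single_le {δ : ℚ} (hδ : 0 < δ) (hT : T.IsSemistable k L δ) {F : X.Modules} (ι : F ⟶ E) [Mono ι]
    (hF : Coh.IsCoh F) (hF0 : ¬ IsZero F) (hι : ¬ IsIso ι) :
    (αE : ℚ) * (Curv2.euler k X F : ℚ) - (DecSh.mult k X L F : ℚ) * (Curv2.euler k X E : ℚ)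
      ≤ δ * (a : ℚ) * ((αE : ℚ) - (DecSh.mult k X L F : ℚ)) := by
  let P := Subobject.mk ι
  let e : (P : X.Modules) ≅ F := Subobject.underlyingIso ι
  have hP : P ≠ ⊤ := fun h => hι (by
    have h' : IsIso P.arrow := (Subobject.isIso_arrow_iff_eq_top P).2 h
    rw [← Subobject.underlyingIso_arrow ι]
    exact IsIso.comp_isIso' inferInstance h')
  have hPc : Coh.IsCoh (P : X.Modules) := QCohMod.isCoh_of_iso e.symm hF
  let 𝓖 := DecSh.WFilt.single P hP (fun h => hF0 (h.of_iso e.symm))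
  have hc : ∀ i, Coh.IsCoh ((𝓖.piece i : Subobject E) : X.Modules) := fun _ => hPc
  have h := hT 𝓖 hc
  obtain ⟨I, -, hI⟩ := 𝓖.exists_gam_eq_mu αE (fun P => DecSh.mult k X L (P : X.Modules)) T.nv
  rw [← hI] at h
  let o : Fin 𝓖.t := ⟨0, Nat.one_pos⟩
  have hν : 𝓖.nu αE (fun P => DecSh.mult k X L (P : X.Modules)) I o ≤ a :=
    (Finset.card_filter_le _ _).trans (by simp)
  have hα : 0 ≤ αE := mult_nonneg k hdim hL hE
  simp only [DecSh.WFilt.msum, DecSh.WFilt.gam] at h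
  change (∑ _x : Fin 1, (1 : ℚ) * ((αE : ℚ) * (Curv2.euler k X (P : X.Modules) : ℚ) -
      (DecSh.mult k X L (P : X.Modules) : ℚ) * (Curv2.euler k X E : ℚ))) +
    δ * (∑ x : Fin 1, (1 : ℚ) * ((a : ℚ) * (DecSh.mult k X L (P : X.Modules) : ℚ) -
      (𝓖.nu αE (fun P => DecSh.mult k X L (P : X.Modules)) I (x : Fin 𝓖.t) : ℚ) * (αE : ℚ))) ≤ 0 at h
  rw [Fin.sum_univ_one, Fin.sum_univ_one] at h
  change (1 : ℚ) * ((αE : ℚ) * (Curv2.euler k X (P : X.Modules) : ℚ) -
      (DecSh.mult k X L (P : X.Modules) : ℚ) * (Curv2.euler k X E : ℚ)) +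
    δ * ((1 : ℚ) * ((a : ℚ) * (DecSh.mult k X L (P : X.Modules) : ℚ) -
      (𝓖.nu αE (fun P => DecSh.mult k X L (P : X.Modules)) I o : ℚ) * (αE : ℚ))) ≤ 0 at h
  rw [EulerDeg.euler_congr k e, mult_congr k e] at h
  have h2 : (𝓖.nu αE (fun P => DecSh.mult k X L (P : X.Modules)) I o : ℚ) * (αE : ℚ) ≤ (a : ℚ) * (αE : ℚ) :=
    mul_le_mul_of_nonneg_right (by exact_mod_cast hν) (by exact_mod_cast hα)
  nlinarith [mul_le_mul_of_nonneg_left h2 hδ.le]

include hdim hL hE hp in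
/-- The bound for the Euler characteristics of subsheaves of a δ-semistable sheaf. -/
theorem euler_le_of_isSemistable {δ : ℚ} (hδ : 0 < δ) (hT : T.IsSemistable k L δ) {F : X.Modules} (ι : F ⟶ E)
    [Mono ι] (hF : Coh.IsCoh F) :
    (Curv2.euler k X F : ℚ) ≤ |(Curv2.euler k X E : ℚ)| + δ * (a : ℚ) * (αE : ℚ) := by
  have hα : (0 : ℚ) ≤ αE := by exact_mod_cast mult_nonneg k hdim hL hE
  have hnn : (0 : ℚ) ≤ δ * (a : ℚ) * (αE : ℚ) := by positivity
  by_cases hF0 : IsZero F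
  · rw [EulerDeg.euler_of_isZero (k := k) (fun q => CohC3.subsingleton_HH_of_isZero (A := k) hF0 q)]
    push_cast; positivity
  by_cases hι : IsIso ι
  · rw [EulerDeg.euler_congr k (asIso ι)]
    linarith [le_abs_self (Curv2.euler k X E : ℚ)]
  have h := single_le k hdim hL hE hp T hδ hT ι hF hF0 hι
  have h1 : (1 : ℚ) ≤ DecSh.mult k X L F := by exact_mod_cast mult_pos_of_isPure k hdim hL hp ι hF hF0
  have h2 : (DecSh.mult k X L F : ℚ) ≤ αE := by exact_mod_cast mult_le_of_mono k hdim hL ι hF hE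
  refine le_of_mul_le_mul_left ?_ (show (0 : ℚ) < αE by linarith)
  have hδa : (0 : ℚ) ≤ δ * a := by positivity
  nlinarith [le_abs_self (Curv2.euler k X E : ℚ), neg_abs_le (Curv2.euler k X E : ℚ),
    mul_le_mul_of_nonneg_left h2 (abs_nonneg (Curv2.euler k X E : ℚ)),
    mul_le_mul_of_nonneg_left (le_abs_self (Curv2.euler k X E : ℚ)) (le_trans zero_le_one h1),
    mul_nonneg hδa (le_trans zero_le_one h1), mul_nonneg (mul_nonneg hδa hα) (by linarith : (0 : ℚ) ≤ (αE : ℚ) - 1)]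

end Groth.DecShCurve
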