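import Groth.Agent.DecShCurve.Core
import Groth.Agent.DecShCurve.Mu
import Groth.Agent.Ega2Proj.AmpleBasic
import Groth.Agent.FibreVA.Curve
import Mathlib.AlgebraicGeometry.Morphisms.ClosedImmersion

/-!
# Boundedness for an arbitrary polarisation, and very ample polarisations as closed immersions
-/

set_option autoImplicit false
set_option linter.style.haveILetI false
set_option backward.isDefEq.respectTransparency.types false

universe u

open CategoryTheory CategoryTheory.Limits AlgebraicGeometry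

namespace Groth.DecShCurve

open Groth

variable (k : Type u) [Field k] {X : Scheme.{u}} [X.Over (Spec (CommRingCat.of k))]
  [IsProper (X ↘ Spec (CommRingCat.of k))]

theorem isPure_of_hyp (hf : IsProper (X ↘ Spec (CommRingCat.of k))) [AlgebraicGeometry.IsReduced X]
    (hdim : topologicalKrullDim X ≤ 1)
    (hiso : ∀ x : X, ¬ IsOpen ({x} : Set X)) {E : X.Modules} (hE : _root_.TorSh.IsTorsionFree E) :
    ShStab.IsPure X E 1 :=
  have := Inter.isNoetherian k (X := X)
  isPure_one hdim hiso hE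

theorem isBounded_of_euler_le [Infinite k] (hdim : topologicalKrullDim X ≤ 1) {L : X.Modules}
    (hL : CohB1.IsAmple L) (a e C : ℤ) :
    Pic13.IsBounded k X (fun E => Coh.IsCoh E ∧ ShStab.IsPure X E 1 ∧ DecSh.mult k X L E = a ∧
      Curv2.euler k X E = e ∧ ∀ (G : X.Modules) (i : G ⟶ E), Mono i → Coh.IsCoh G → Curv2.euler k X G ≤ C) := by
  have hN := Inter.isNoetherian k (X := X)
  obtain ⟨m, N, ι, hN0, hι, hιf, ⟨eN⟩⟩ :=
    PnCoh.exists_closedImmersion_of_isAmple (X ↘ Spec (CommRingCat.of k)) hL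
  have := hι
  have hLN : CohB1.IsAmple (CohB1.tensorPow L N) := (Ega2Proj.isAmple_tensorPow_iff hL.1 N hN0).1 hL
  refine Pic13Aux.isBounded_mono (isBounded_pure k hdim ι hιf ⟨eN⟩ hLN (N * a) e C)
    fun E ⟨hE, hp, ha, he, hC⟩ => ⟨hE, hp, ?_, he, hC⟩
  have h := euler_twist k hdim hL hE N
  rw [show ShStab.twist X L E N = CohB1.tensorMod E (CohB1.tensorPow L N) from rfl, ha] at h
  rw [DecSh.mult, h]; ring

/-- A very ample module is the pullback of `O(1)` under a closed immersion. -/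
theorem exists_closedImmersion_of_pn {L : X.Modules}
    (h : RelAmple.IsRelVeryAmplePn (X ↘ Spec (CommRingCat.of k)) L) :
    ∃ (n : ℕ) (j : X ⟶ CohB1.ProjSpace n k), IsClosedImmersion j ∧
      j ≫ CohB1.ProjSpace.toSpec n k = X ↘ Spec (CommRingCat.of k) ∧
      Nonempty (L ≅ (Scheme.Modules.pullback j).obj (Twist.twistProjSpace n k 1)) := by
  obtain ⟨n, i, hi, hif, ⟨e⟩⟩ := h
  obtain ⟨τ⟩ := Groth.PnCoh.nonempty_pullback_overIso_twist n k 1
  let o := Groth.PnCoh.overIso n k
  have hj : (i ≫ o.inv) ≫ CohB1.ProjSpace.toSpec n k = X ↘ Spec (CommRingCat.of k) := by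
    rw [Category.assoc]
    refine (congrArg (i ≫ ·) ((Iso.inv_comp_eq o).2 ?_)).trans hif
    exact (Groth.PnCoh.overIso_hom_toBase n k).symm
  have hij : IsImmersion (i ≫ o.inv) := inferInstance
  have hpr : IsProper (i ≫ o.inv) := by
    have : IsProper ((i ≫ o.inv) ≫ CohB1.ProjSpace.toSpec n k) := by rw [hj]; infer_instance
    have := Groth.Variety2.isProper_projSpace_toSpec n k
    exact IsProper.of_comp (i ≫ o.inv) (CohB1.ProjSpace.toSpec n k)
  refine ⟨n, i ≫ o.inv, .of_isPreimmersion _ ((i ≫ o.inv).isClosedMap.isClosed_range), hj, ⟨?_⟩⟩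
  exact e ≪≫ ((Scheme.Modules.pullbackCongr (show (i ≫ o.inv) ≫ o.hom = i by simp)).app _).symm ≪≫
    ((Scheme.Modules.pullbackComp (i ≫ o.inv) o.hom).app _).symm ≪≫
    (Scheme.Modules.pullback (i ≫ o.inv)).mapIso τ

end Groth.DecShCurve
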