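import Groth.Agent.DecShCurve.MinQuot
import Groth.Agent.DecShCurve.Sections
import Groth.Agent.DecShCurve.Setup
import Groth.Agent.Variety2.Reg.Closed

/-!
# Uniform behaviour of high twists in families with bounded subsheaves
-/

set_option autoImplicit false
set_option linter.style.haveILetI false
set_option backward.isDefEq.respectTransparency.types false

universe u

open CategoryTheory CategoryTheory.Limits AlgebraicGeometry

namespace Groth.DecShCurve

open Groth Groth.PicAux
open Groth.PropsBasic.Ample (gloc)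

/-- Tensoring a module determined by global sections with one that has generating sections everywhere. -/
theorem detByGlobal_tensor {X : Scheme.{u}} {F M : X.Modules} (hF : Variety2.Reg.DetByGlobal F)
    (hM : ∀ x : X, ∃ t : Γ(M, (⊤ : X.Opens)), x ∈ gloc t) :
    Variety2.Reg.DetByGlobal (CohB1.tensorMod F M) := by
  intro Z φ ψ he
  choose t ht using hM
  refine hom_ext_cover (U := fun x : X => gloc (t x))
    (eq_top_iff.2 fun x _ => TopologicalSpace.Opens.mem_iSup.2 ⟨x, ht x⟩) fun x V hV v => ?_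
  obtain ⟨w, rfl⟩ := (HilbStab.mulSec_app_bijective (t x) F hV).2 v
  have h : HilbStab.mulSec (t x) F ≫ φ = HilbStab.mulSec (t x) F ≫ ψ := hF _ _ fun s => he _
  exact congrArg (fun g => Scheme.Modules.Hom.app g V w) h

variable (k : Type u) [Field k] [Infinite k] {X : Scheme.{u}} [X.Over (Spec (CommRingCat.of k))]
  [IsProper (X ↘ Spec (CommRingCat.of k))] (hdim : topologicalKrullDim X ≤ 1)
  {L : X.Modules} (hL : CohB1.IsAmple L)

local notation "χ" => Curv2.euler k X

include hdim hL in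
/-- Twists by high powers: vanishing and generation for sheaves with bounded invariants. -/
theorem exists_regular_twist (A e₁ C : ℤ) :
    ∃ n₀ : ℕ, ∀ n, n₀ ≤ n → ∀ E : X.Modules, Coh.IsCoh E → ShStab.IsPure X E 1 →
      DecSh.mult k X L E ≤ A → e₁ ≤ χ E →
      (∀ (G : X.Modules) (i : G ⟶ E), Mono i → Coh.IsCoh G → χ G ≤ C) →
      Subsingleton (Coh.HH X (ShStab.twist X L E n) 1) ∧
        Curv2.IsGloballyGenerated (ShStab.twist X L E n) := by
  have hN := Inter.isNoetherian k (X := X)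
  obtain ⟨p, N, ι, hN0, hι, hιf, ⟨eN⟩⟩ :=
    PnCoh.exists_closedImmersion_of_isAmple (X ↘ Spec (CommRingCat.of k)) hL
  have := hι
  let L' := CohB1.tensorPow L N
  have hLN : CohB1.IsAmple L' := (Ega2Proj.isAmple_tensorPow_iff hL.1 N hN0).1 hL
  obtain ⟨i₀, hi₀⟩ := exists_section_pow k hL
  let j : ℤ := max C 0 + (Module.finrank k (Coh.HH X (Coh.structureModule X) 1) : ℤ) + 1
  have hj0 : 0 ≤ j := by positivity
  let m : ℤ := -j + 1 + (j * (N * max A 0) - e₁)
  refine ⟨i₀ + N * (m.toNat + 1), fun n hn E hE hp hA he₁ hC => ?_⟩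
  have hA' : DecSh.mult k X L' E ≤ N * max A 0 := by
    have h := euler_twist k hdim hL hE N
    rw [show ShStab.twist X L E N = CohB1.tensorMod E L' from rfl] at h
    rw [show DecSh.mult k X L' E = (N : ℤ) * DecSh.mult k X L E by rw [DecSh.mult, h]; ring]
    exact mul_le_mul_of_nonneg_left (hA.trans (le_max_left _ _)) (Int.natCast_nonneg _)
  have hreg := isMRegular_of_bound k hdim ι hιf ⟨eN⟩ hLN hE hp
    (subsingleton_h0_twistOn k hdim ι hιf ⟨eN⟩ hLN hE j fun G i hi hG hG0 => by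
      have h1 := mult_pos_of_isPure k hdim hLN hp i hG hG0
      have h2 := hC G i hi hG
      nlinarith [le_max_left C 0, le_max_right C 0, mul_nonneg hj0 (show (0 : ℤ) ≤ DecSh.mult k X L' G - 1 by omega)])
  have hreg' : Pic13.IsMRegular k ι E m := Misc13.NumTriv.mReg_mono k ι hE hreg (by
    have := mul_le_mul_of_nonneg_left hA' hj0
    show _ ≤ -j + 1 + (j * (N * max A 0) - e₁)
    linarith)
  obtain ⟨q, hq, hqn⟩ : ∃ q : ℕ, m ≤ q ∧ i₀ + N * q ≤ n :=
    ⟨m.toNat + 1, by omega, hn⟩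
  let i := n - N * q
  have hi : i₀ ≤ i := by omega
  let e : ShStab.twist X L E (N * q) ≅ Pic13.twistOn k ι E (q : ℤ) :=
    (Inter.tensor_congr ⟨Iso.refl E⟩ (PicAux.tensorPow_mul L N q)).some ≪≫
      (Agent.S15216.nonempty_twist_iso k ι ⟨eN⟩ E q).some
  have hn' : n = N * q + i := by omega
  constructor
  · rw [hn']
    refine subsingleton_h1_twist k hdim hL hE hp (hi₀ i hi).2 _ (Inter.subsingleton_HH_of_iso k e.symm ?_)
    have h := Misc13.NumTriv.mReg_mono k ι hE hreg' (show m ≤ (q : ℤ) + 1 by omega) 1 le_rfl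
    rwa [show (q : ℤ) + 1 - ((1 : ℕ) : ℤ) = (q : ℤ) by push_cast; ring] at h
  · haveI := hE.1
    have hdet : Variety2.Reg.DetByGlobal (Pic13.twistOn k ι E (q : ℤ)) :=
      Variety2.Reg.detByGlobal_twistOn ι E _ (Variety2.Reg.detByGlobal_of_mReg _
        (Variety2.Reg.isCoh_pF ι E hE) (Variety2.Reg.mReg_pF ι E hreg') hq)
    refine ((detByGlobal_tensor (hdet.of_iso e.symm) (hi₀ i hi).1).of_iso ?_).isGloballyGenerated
    exact (Inter.tensor_assoc E (CohB1.tensorPow L (N * q)) (CohB1.tensorPow L i)).some ≪≫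
      (Inter.tensor_congr ⟨Iso.refl E⟩ ⟨(PicAux.tensorPow_add L (N * q) i).some.symm ≪≫
        eqToIso (by rw [hn'])⟩).some

include hdim hL in
/-- Either `H¹` of the twist vanishes or `h⁰` is small. -/
theorem exists_dichotomy (A C M : ℤ) :
    ∃ n₀ : ℕ, ∀ n, n₀ ≤ n → ∀ G : X.Modules, Coh.IsCoh G → ShStab.IsPure X G 1 → ¬ IsZero G →
      DecSh.mult k X L G ≤ A →
      (∀ (H : X.Modules) (v : H ⟶ G), Mono v → Coh.IsCoh H → χ H ≤ C) →
      Subsingleton (Coh.HH X (ShStab.twist X L G n) 1) ∨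
        (Module.finrank k (Coh.HH X (ShStab.twist X L G n) 0) : ℤ) ≤ (n : ℤ) * DecSh.mult k X L G - M := by
  have hN := Inter.isNoetherian k (X := X)
  obtain ⟨p, N, ι, hN0, hι, hιf, ⟨eN⟩⟩ :=
    PnCoh.exists_closedImmersion_of_isAmple (X ↘ Spec (CommRingCat.of k)) hL
  have := hι
  let L' := CohB1.tensorPow L N
  have hLN : CohB1.IsAmple L' := (Ega2Proj.isAmple_tensorPow_iff hL.1 N hN0).1 hL
  obtain ⟨i₀, hi₀⟩ := exists_section_pow k hL
  let h : ℤ := (Module.finrank k (Coh.HH X (Coh.structureModule X) 1) : ℤ)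
  let jC : ℤ := max C 0 + h + 1
  have hjC0 : 0 ≤ jC := by positivity
  let A₀ : ℤ := max A 0
  let K : ℤ := (i₀ : ℤ) + N + N * jC
  let M' : ℤ := |M| + K * A₀ + jC
  have hM'0 : 0 ≤ M' := by positivity
  have hM'j : jC ≤ M' := by
    have : 0 ≤ |M| + K * A₀ := by positivity
    show jC ≤ |M| + K * A₀ + jC
    linarith
  let low : ℤ := N * A₀ * (jC - M' - h - 1)
  obtain ⟨n₁, hn₁⟩ := exists_regular_twist k hdim hL A (low + 1) C
  refine ⟨max n₁ ((N : ℕ) * M'.toNat + i₀), fun n hn G hG hp hG0 hA hC => ?_⟩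
  by_cases hlow : low + 1 ≤ χ G
  · exact Or.inl (hn₁ n (le_of_max_le_left hn) G hG hp hA hlow hC).1
  right
  have hα0 : 0 ≤ DecSh.mult k X L G := mult_nonneg k hdim hL hG
  have hαA : DecSh.mult k X L G ≤ A₀ := hA.trans (le_max_left _ _)
  have hmult : DecSh.mult k X L' G = (N : ℤ) * DecSh.mult k X L G := by
    have h := euler_twist k hdim hL hG N
    rw [show ShStab.twist X L G N = CohB1.tensorMod G L' from rfl] at h
    rw [DecSh.mult, h]; ring
  let q : ℕ := (n + i₀) / N + 1
  have hq1 : n + i₀ ≤ N * q := by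
    have := Nat.div_add_mod (n + i₀) N
    have := Nat.mod_lt (n + i₀) hN0
    simp only [q, mul_add, mul_one]
    omega
  have hq2 : N * q ≤ n + i₀ + N := by
    have := Nat.div_add_mod (n + i₀) N
    simp only [q, mul_add, mul_one]
    omega
  have hqM : M' ≤ (q : ℤ) + jC := by
    have h1 : N * M'.toNat ≤ N * q := by
      have := le_of_max_le_right hn
      omega
    have := Nat.le_of_mul_le_mul_left h1 hN0
    omega
  let e : ShStab.twist X L G (N * q) ≅ Pic13.twistOn k ι G (q : ℤ) :=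
    (Inter.tensor_congr ⟨Iso.refl G⟩ (PicAux.tensorPow_mul L N q)).some ≪≫
      (Agent.S15216.nonempty_twist_iso k ι ⟨eN⟩ G q).some
  have h1 := h0_twist_mono k hdim hL hG hp (hi₀ (N * q - n) (by omega)).2 n
  rw [show n + (N * q - n) = N * q by omega, EulerDeg.finrank_congr (k := k) e] at h1
  have h2 := h0_twistOn_le_of_low k hdim hLN ι hιf ⟨eN⟩ hG hp hG0 (jC := jC) (A := N * A₀) (M := M')
    (fun H v hv hH hH0 => by
      have t1 := mult_pos_of_isPure k hdim hLN hp v hH hH0
      have t2 := hC H v hv hH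
      have t3 := mul_nonneg hjC0 (show (0 : ℤ) ≤ DecSh.mult k X L' H - 1 by omega)
      have := le_max_left C 0
      show χ H + h < jC * _
      have : max C 0 + h + 1 = jC := rfl
      nlinarith)
    (by rw [hmult]; exact mul_le_mul_of_nonneg_left hαA (Int.natCast_nonneg _)) hM'j
    (show χ G ≤ N * A₀ * (jC - M' - h - 1) by
      have : ¬ (N * A₀ * (jC - M' - h - 1) + 1 ≤ χ G) := hlow
      omega)
    (q := (q : ℤ)) hqM hM'0
  rw [hmult] at h2
  have hq2' : (N : ℤ) * q ≤ n + i₀ + N := by exact_mod_cast hq2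
  have hKA : K * DecSh.mult k X L G ≤ K * A₀ := mul_le_mul_of_nonneg_left hαA (by positivity)
  have h3 := mul_le_mul_of_nonneg_right hq2' hα0
  have h4 : (Module.finrank k (Coh.HH X (ShStab.twist X L G n) 0) : ℤ) ≤
      (Module.finrank k (Coh.HH X (Pic13.twistOn k ι G (q : ℤ)) 0) : ℤ) := by exact_mod_cast h1
  have : M ≤ |M| := le_abs_self M
  simp only [M', K] at h2 hKA
  nlinarith

end Groth.DecShCurve
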