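import Groth.Agent.DecShCurve.QuotBound
import Groth.Agent.DecShCurve.Setup
import Groth.Agent.Pic13Aux.RegularBoundedLe

/-!
# Bounded families of pure sheaves and the quotient sectional condition of tensor fields
-/

set_option autoImplicit false
set_option linter.style.haveILetI false
set_option backward.isDefEq.respectTransparency.types false

universe u

open CategoryTheory CategoryTheory.Limits AlgebraicGeometry

namespace Groth.DecShCurve

open Groth

variable (k : Type u) [Field k] [Infinite k] {X : Scheme.{u}} [X.Over (Spec (CommRingCat.of k))]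
  [IsProper (X ↘ Spec (CommRingCat.of k))] (hdim : topologicalKrullDim X ≤ 1)

include hdim in
/-- Pure sheaves with bounded multiplicity, Euler characteristic and subsheaves form a bounded family. -/
theorem isBounded_family {L : X.Modules} (hL : CohB1.IsAmple L) (A e₁ e₂ C : ℤ) :
    Pic13.IsBounded k X (fun E => Coh.IsCoh E ∧ ShStab.IsPure X E 1 ∧ DecSh.mult k X L E ≤ A ∧
      e₁ ≤ Curv2.euler k X E ∧ Curv2.euler k X E ≤ e₂ ∧
      ∀ (G : X.Modules) (i : G ⟶ E), Mono i → Coh.IsCoh G → Curv2.euler k X G ≤ C) := by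
  have hN := Inter.isNoetherian k (X := X)
  obtain ⟨n, N, ι, hN0, hι, hιf, ⟨eN⟩⟩ :=
    PnCoh.exists_closedImmersion_of_isAmple (X ↘ Spec (CommRingCat.of k)) hL
  have := hι
  let L' := CohB1.tensorPow L N
  have hLN : CohB1.IsAmple L' := (Ega2Proj.isAmple_tensorPow_iff hL.1 N hN0).1 hL
  let h1O : ℕ := Module.finrank k (Coh.HH X (Coh.structureModule X) 1)
  let j : ℤ := max C 0 + h1O + 1
  let A' : ℤ := N * max A 0
  let m : ℤ := -j + 1 + (j * A' - e₁)
  refine Pic13Aux.isBounded_mono (Pic13Aux.isBounded_mRegular_le k n X ι hιf m (e₂ + |m| * A').toNat)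
    fun E ⟨hE, hp, hA, he₁, he₂, hC⟩ => ?_
  have h0 : 0 ≤ DecSh.mult k X L' E := mult_nonneg k hdim hLN hE
  have hA' : DecSh.mult k X L' E ≤ A' := by
    have h := euler_twist k hdim hL hE N
    rw [show ShStab.twist X L E N = CohB1.tensorMod E L' from rfl] at h
    have h' : DecSh.mult k X L' E = (N : ℤ) * DecSh.mult k X L E := by
      rw [DecSh.mult, h]; ring
    rw [h']
    exact mul_le_mul_of_nonneg_left (hA.trans (le_max_left _ _)) (Int.natCast_nonneg _)
  have hj0 : 0 ≤ j := by positivity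
  have hreg := isMRegular_of_bound k hdim ι hιf ⟨eN⟩ hLN hE hp
    (subsingleton_h0_twistOn k hdim ι hιf ⟨eN⟩ hLN hE j fun G i hi hG hG0 => by
      have h1 := mult_pos_of_isPure k hdim hLN hp i hG hG0
      have h2 := hC G i hi hG
      nlinarith [le_max_left C 0, le_max_right C 0, mul_nonneg hj0 (show (0 : ℤ) ≤ DecSh.mult k X L' G - 1 by omega)])
  refine ⟨hE, Misc13.NumTriv.mReg_mono k ι hE hreg ?_, ?_⟩
  · have := mul_le_mul_of_nonneg_left hA' hj0
    show _ ≤ -j + 1 + (j * A' - e₁)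
    linarith
  · rw [euler_twistOn k hdim ι hιf ⟨eN⟩ hLN hE]
    refine le_trans ?_ (Int.self_le_toNat _)
    nlinarith [le_abs_self m, abs_nonneg m]

include hdim in
/-- The subsheaves of a sheaf with a tensor field satisfying the quotient sectional condition. -/
theorem euler_le_of_quotSectional {L : X.Modules} (hL : CohB1.IsAmple L)
    {n : ℕ} (ι : X ⟶ CohB1.ProjSpace n k) [IsClosedImmersion ι]
    (hι : ι ≫ CohB1.ProjSpace.toSpec n k = X ↘ Spec (CommRingCat.of k))
    (hι' : Nonempty (L ≅ (Scheme.Modules.pullback ι).obj (Twist.twistProjSpace n k 1)))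
    {F D : X.Modules} {a b : ℕ} (T : DecSh.TF F a b D) {δ : ℚ} (hδ : 0 < δ) (hF : Coh.IsCoh F)
    (hp : ShStab.IsPure X F 1) {m : ℕ}
    (hm : δ * (a : ℚ) * (DecSh.mult k X L F : ℚ) <
      (Curv2.euler k X F : ℚ) + (m : ℚ) * (DecSh.mult k X L F : ℚ))
    (hc : ∀ 𝓕 : DecSh.WFilt F, (∀ i, Coh.IsCoh ((𝓕.piece i : Subobject F) : X.Modules)) →
      (∑ i, 𝓕.wt i * ((DecSh.mult k X L (cokernel (𝓕.piece i).arrow) : ℚ) *
          (Curv2.euler k X (ShStab.twist X L F m) : ℚ) -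
        (DecSh.mult k X L F : ℚ) *
          (Module.finrank k (Coh.HH X (ShStab.twist X L (cokernel (𝓕.piece i).arrow) m) 0) : ℚ))) +
        δ * T.mu k L 𝓕 ≤ 0)
    {G : X.Modules} (i : G ⟶ F) [Mono i] (hG : Coh.IsCoh G) :
    (Curv2.euler k X G : ℚ) ≤ |(Curv2.euler k X F : ℚ)| + δ * (a : ℚ) * (DecSh.mult k X L F : ℚ) +
      ((Module.finrank k (Coh.HH X (Coh.structureModule X) 1) : ℚ) + 1) * (DecSh.mult k X L F : ℚ) := by
  have hα : (0 : ℚ) ≤ DecSh.mult k X L F := by exact_mod_cast mult_nonneg k hdim hL hF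
  refine euler_le_of_quotient_sections k hdim hL ι hι hι' hF hp (D := δ * (a : ℚ) * (DecSh.mult k X L F : ℚ))
    (by positivity) hm (fun H u hu hH hH0 hui => ?_) i hG
  let P := Subobject.mk u
  let e : (P : X.Modules) ≅ H := Subobject.underlyingIso u
  have hP : P ≠ ⊤ := fun h => hui (by
    have h' : IsIso P.arrow := (Subobject.isIso_arrow_iff_eq_top P).2 h
    rw [← Subobject.underlyingIso_arrow u]
    exact IsIso.comp_isIso' inferInstance h')
  let 𝓖 := DecSh.WFilt.single P hP (fun h => hH0 (h.of_iso e.symm))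
  have hcoh : ∀ i, Coh.IsCoh ((𝓖.piece i : Subobject F) : X.Modules) := fun _ => QCohMod.isCoh_of_iso e.symm hH
  have h := hc 𝓖 hcoh
  have hμ := (abs_le.1 (abs_mu_le k hdim hL hF hp T 𝓖 hcoh)).1
  let c : cokernel P.arrow ≅ cokernel u :=
    cokernelIsoOfEq (show P.arrow = e.hom ≫ u by rw [Subobject.underlyingIso_hom_comp_eq_mk]) ≪≫
      cokernelEpiComp e.hom u
  change (∑ _x : Fin 1, (1 : ℚ) * ((DecSh.mult k X L (cokernel P.arrow) : ℚ) *
      (Curv2.euler k X (ShStab.twist X L F m) : ℚ) - (DecSh.mult k X L F : ℚ) *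
        (Module.finrank k (Coh.HH X (ShStab.twist X L (cokernel P.arrow) m) 0) : ℚ))) +
    δ * T.mu k L 𝓖 ≤ 0 at h
  change -((∑ _x : Fin 1, (1 : ℚ)) * (a : ℚ) * ((DecSh.mult k X L F : ℚ) - 1)) ≤ T.mu k L 𝓖 at hμ
  rw [Fin.sum_univ_one] at h hμ
  rw [mult_congr k c, euler_twist k hdim hL hF m,
    EulerDeg.finrank_congr (k := k)
      ((Agent.S15216.nonempty_twist_iso k ι hι' (cokernel P.arrow) m).some ≪≫
        (Misc13.NumTriv.twistOn_congr k ι c (m : ℤ)).some)] at h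
  push_cast at h
  have := mul_le_mul_of_nonneg_left hμ hδ.le
  have hδa : (0 : ℚ) ≤ δ * (a : ℚ) := by positivity
  linarith

include hdim in
/-- The uniform bound on subsheaves for δ-semistable or quotient sectional tensor fields. -/
theorem exists_sub_bound {L : X.Modules} (hL : CohB1.IsAmple L)
    (hva : RelAmple.IsRelVeryAmplePn (X ↘ Spec (CommRingCat.of k)) L)
    {δ : ℚ} (hδ : 0 < δ) (α e : ℤ) (a b : ℕ) (D : X.Modules) :
    ∃ (N₁ : ℕ) (C : ℤ), ∀ F : X.Modules, Coh.IsCoh F → ShStab.IsPure X F 1 →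
      DecSh.mult k X L F = α → Curv2.euler k X F = e →
      (∃ T : DecSh.TF F a b D, (T.IsSemistable k L δ ∨ ∃ m : ℕ, N₁ ≤ m ∧
        ∀ 𝓕 : DecSh.WFilt F, (∀ i, Coh.IsCoh ((𝓕.piece i : Subobject F) : X.Modules)) →
          (∑ i, 𝓕.wt i * ((DecSh.mult k X L (cokernel (𝓕.piece i).arrow) : ℚ) *
              (Curv2.euler k X (ShStab.twist X L F m) : ℚ) -
            (α : ℚ) * (Module.finrank k (Coh.HH X (ShStab.twist X L (cokernel (𝓕.piece i).arrow) m) 0) : ℚ))) +
            δ * T.mu k L 𝓕 ≤ 0)) →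
      ∀ (G : X.Modules) (i : G ⟶ F), Mono i → Coh.IsCoh G → Curv2.euler k X G ≤ C := by
  obtain ⟨n, ι, hι0, hι, hι'⟩ := exists_closedImmersion_of_pn k hva
  have := hι0
  let h1O : ℕ := Module.finrank k (Coh.HH X (Coh.structureModule X) 1)
  let B : ℚ := |(e : ℚ)| + δ * (a : ℚ) * (α : ℚ) + ((h1O : ℚ) + 1) * (α : ℚ)
  refine ⟨⌈δ * (a : ℚ)⌉₊ + e.natAbs + 1, max ⌈B⌉ 0, fun F hF hp hα he ⟨T, hT⟩ G i hi hG => ?_⟩
  have hα0 : 0 ≤ α := hα ▸ mult_nonneg k hdim hL hF
  by_cases hF0 : IsZero F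
  · have hG0 : IsZero G := IsZero.of_mono i hF0
    rw [EulerDeg.euler_of_isZero (k := k) (fun q => CohC3.subsingleton_HH_of_isZero (A := k) hG0 q)]
    exact le_max_right _ _
  have hα1 : 1 ≤ α := hα ▸ mult_pos_of_isPure k hdim hL hp (𝟙 F) hF hF0
  suffices h : (Curv2.euler k X G : ℚ) ≤ B from
    (Int.cast_le.1 (h.trans (Int.le_ceil B))).trans (le_max_left _ _)
  rcases hT with hT | ⟨m, hm, hc⟩
  · have h := euler_le_of_isSemistable k hdim hL hF hp T hδ hT i hG
    rw [hα, he] at h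
    have : (0 : ℚ) ≤ ((h1O : ℚ) + 1) * (α : ℚ) := by
      have : (0 : ℚ) ≤ (α : ℚ) := by exact_mod_cast hα0
      positivity
    simp only [B]
    linarith
  · have hm' : δ * (a : ℚ) + |(e : ℚ)| + 1 ≤ (m : ℚ) := by
      have h1 := Nat.le_ceil (δ * (a : ℚ))
      have h2 : (⌈δ * (a : ℚ)⌉₊ : ℚ) + (e.natAbs : ℚ) + 1 ≤ (m : ℚ) := by exact_mod_cast hm
      rw [Nat.cast_natAbs, Int.cast_abs] at h2
      linarith
    have hαq : (1 : ℚ) ≤ (α : ℚ) := by exact_mod_cast hα1
    have h := euler_le_of_quotSectional k hdim hL ι hι hι' T hδ hF hp (m := m) (by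
      rw [hα, he]
      have := mul_le_mul_of_nonneg_right hm' (le_trans zero_le_one hαq)
      have := mul_le_mul_of_nonneg_left hαq (show (0 : ℚ) ≤ |(e : ℚ)| + 1 by positivity)
      nlinarith [neg_abs_le (e : ℚ)]) (by rwa [hα]) i hG
    rw [hα, he] at h
    exact h

end Groth.DecShCurve
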