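import Groth.Agent.DecShCurve.QuotBound

/-!
# The estimate of `h⁰` for a sheaf with very negative Euler characteristic
-/

set_option autoImplicit false
set_option linter.style.haveILetI false
set_option backward.isDefEq.respectTransparency.types false

universe u

open CategoryTheory CategoryTheory.Limits AlgebraicGeometry

namespace Groth.DecShCurve

open Groth

variable (k : Type u) [Field k] [Infinite k] {X : Scheme.{u}} [X.Over (Spec (CommRingCat.of k))]
  [IsProper (X ↘ Spec (CommRingCat.of k))] (hdim : topologicalKrullDim X ≤ 1)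
  {L : X.Modules} (hLa : CohB1.IsAmple L) {n : ℕ} (ι : X ⟶ CohB1.ProjSpace n k) [IsClosedImmersion ι]
  (hι : ι ≫ CohB1.ProjSpace.toSpec n k = X ↘ Spec (CommRingCat.of k))
  (hL : Nonempty (L ≅ (Scheme.Modules.pullback ι).obj (Twist.twistProjSpace n k 1)))

local notation "α" => DecSh.mult k X L
local notation "χ" => Curv2.euler k X
local notation "h¹O" => Module.finrank k (Coh.HH X (Coh.structureModule X) 1)

include hdim hLa hι hL in
/-- A quotient of least slope and the vanishing of its sections. -/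
theorem exists_minQuot {G : X.Modules} (hG : Coh.IsCoh G) (hp : ShStab.IsPure X G 1) (h0 : ¬ IsZero G) :
    ∃ (H : X.Modules) (u : H ⟶ G) (_ : Mono u) (j : ℤ), Coh.IsCoh H ∧ 1 ≤ α (cokernel u) ∧
      ShStab.IsPure X (cokernel u) 1 ∧
      Subsingleton (Coh.HH X (Pic13.twistOn k ι (cokernel u) (-j)) 0) ∧
      (j : ℚ) * (α G : ℚ) ≤ (χ G : ℚ) + ((h¹O : ℚ) + 1) * (α G : ℚ) := by
  have hNo := Inter.isNoetherian k (X := X)
  haveI := hG.1
  have hα1 : 1 ≤ α G := mult_pos_of_isPure k hdim hLa hp (𝟙 G) hG h0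
  have hα1q : (1 : ℚ) ≤ α G := by exact_mod_cast hα1
  let S : Set (ℤ × ℤ) := {p | ∃ (H : X.Modules) (u : H ⟶ G) (_ : Mono u), Coh.IsCoh H ∧
    α (cokernel u) = p.1 ∧ χ (cokernel u) = p.2 ∧ 1 ≤ p.1 ∧ p.2 * α G ≤ χ G * p.1}
  have hfin : S.Finite := by
    refine ((Set.finite_Icc (1 : ℤ) (α G)).prod (Set.finite_Icc
      (-(Module.finrank k (Coh.HH X G 1) : ℤ)) (|χ G| * α G))).subset ?_
    rintro ⟨a, c⟩ ⟨H', u', hu', hH', ha, hc, ha1, hca⟩
    simp only at ha hc ha1 hca
    haveI := hH'.1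
    have hQc : Coh.IsCoh (cokernel u') := QCohMod.isCoh_cokernel u' hG
    have := mult_mono k hdim hLa u' hH' hG
    have := mult_nonneg k hdim hLa hH'
    refine ⟨⟨ha1, by simp only; omega⟩, ⟨?_, ?_⟩⟩
    · have h1 := h1_le_of_epi k hdim (cokernel.π u') hG
      have h2 := euler_ge_neg_h1 k hdim (cokernel u')
      simp only; omega
    · simp only
      have haA : a ≤ α G := by omega
      rcases le_or_gt c 0 with hc0 | hc0
      · nlinarith [abs_nonneg (χ G)]
      · have q1 : χ G * a ≤ |χ G| * α G :=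
          (mul_le_mul_of_nonneg_right (le_abs_self (χ G)) (by omega)).trans
            (mul_le_mul_of_nonneg_left haA (abs_nonneg _))
        nlinarith
  have hne : S.Nonempty := by
    obtain ⟨Z, hZ⟩ : ∃ Z : X.Modules, IsZero Z := HasZeroObject.zero
    haveI : Mono (0 : Z ⟶ G) := ⟨fun g h _ => hZ.eq_of_tgt g h⟩
    have hZc : Coh.IsCoh Z := by
      have hK : Coh.IsCoh (kernel (𝟙 G)) := QCohMod.isCoh_kernel _ hG
      exact QCohMod.isCoh_of_iso ((isZero_kernel_of_mono (𝟙 G)).iso hZ) hK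
    let e : cokernel (0 : Z ⟶ G) ≅ G := cokernelZeroIsoTarget
    exact ⟨(α G, χ G), Z, 0, inferInstance, hZc, mult_congr k e, EulerDeg.euler_congr k e, hα1, le_rfl⟩
  obtain ⟨⟨a₀, c₀⟩, ⟨H₀, u₀, hu₀, hH₀, ha₀, hc₀, ha₀1, hca₀⟩, hmin⟩ :=
    hfin.exists_minimalFor (fun p : ℤ × ℤ => (p.2 : ℚ) / (p.1 : ℚ)) S hne
  simp only at ha₀ hc₀ ha₀1 hca₀
  haveI := hu₀
  haveI := hH₀.1
  let Q := cokernel u₀
  have hQc : Coh.IsCoh Q := QCohMod.isCoh_cokernel u₀ hG
  haveI := hQc.1
  have ha₀q : (1 : ℚ) ≤ a₀ := by exact_mod_cast ha₀1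
  have hca₀q : (c₀ : ℚ) * (α G : ℚ) ≤ (χ G : ℚ) * a₀ := by exact_mod_cast hca₀
  have hsubQ : ∀ (T : X.Modules) (v : T ⟶ Q), Mono v → Coh.IsCoh T →
      (1 ≤ α (cokernel v) → (c₀ : ℚ) * (α (cokernel v) : ℚ) ≤ (χ (cokernel v) : ℚ) * (a₀ : ℚ)) := by
    intro T v hv hT h1
    haveI := hT.1
    let q : G ⟶ cokernel v := cokernel.π u₀ ≫ cokernel.π v
    have hC : Coh.IsCoh (cokernel v) := QCohMod.isCoh_cokernel v hQc
    haveI := hC.1
    haveI : Epi q := epi_comp _ _
    have hKc : Coh.IsCoh (kernel q) := QCohMod.isCoh_kernel q hG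
    let e : cokernel (kernel.ι q) ≅ cokernel v :=
      ((Abelian.epiIsCokernelOfKernel _ (kernelIsKernel q)).coconePointUniqueUpToIso
        (cokernelIsCokernel (kernel.ι q))).symm
    have hp1 : (0 : ℚ) < (α (cokernel v) : ℚ) := by exact_mod_cast h1
    by_cases hin : χ (cokernel v) * α G ≤ χ G * α (cokernel v)
    · have h := hmin (j := (α (cokernel v), χ (cokernel v)))
        ⟨kernel q, kernel.ι q, inferInstance, hKc, mult_congr k e, EulerDeg.euler_congr k e, h1, hin⟩
      simp only at h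
      rcases le_total ((c₀ : ℚ) / a₀) ((χ (cokernel v) : ℚ) / (α (cokernel v) : ℚ)) with h' | h'
      · exact (div_le_div_iff₀ (by linarith) hp1).1 h'
      · exact (div_le_div_iff₀ (by linarith) hp1).1 (h h')
    · have h2 : (χ G : ℚ) * (α (cokernel v) : ℚ) ≤ (χ (cokernel v) : ℚ) * (α G : ℚ) := by
        exact_mod_cast le_of_not_ge hin
      refine le_of_mul_le_mul_right ?_ (show (0 : ℚ) < α G by linarith)
      nlinarith
  have hpQ : ShStab.IsPure X Q 1 := by
    intro T v hv hT hT0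
    refine le_antisymm ((SpectralTopology.dim_le_of_subset (Set.subset_univ _)).trans
      ((Homeomorph.Set.univ X).isHomeomorph.topologicalKrullDim_eq.le.trans hdim)) ?_
    by_contra hlt
    have hd : topologicalKrullDim (CohB1.support T) ≤ 0 := ENat.WithBot.lt_add_one_iff.1 (lt_of_not_ge hlt)
    have h1 := mult_eq_zero_of_dim_le_zero k hdim hLa hT hd
    have h2 := euler_pos_of_dim_le_zero k hdim hLa hT hT0 hd
    have h3 := mult_mono k hdim hLa v hT hQc
    have h4 := euler_mono k v hT hQc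
    change α (cokernel u₀) = _ at h3
    change χ (cokernel u₀) = _ at h4
    have h5 := hsubQ T v hv hT (by omega)
    rw [show α (cokernel v) = a₀ by omega, show χ (cokernel v) = c₀ - χ T by omega] at h5
    push_cast at h5
    have : (1 : ℚ) ≤ χ T := by exact_mod_cast h2
    nlinarith
  let j : ℤ := ⌊(c₀ : ℚ) / (a₀ : ℚ)⌋ + h¹O + 1
  have hj : (c₀ : ℚ) + (h¹O : ℚ) * a₀ < (j : ℚ) * a₀ := by
    have h := Int.lt_floor_add_one ((c₀ : ℚ) / (a₀ : ℚ))
    rw [div_lt_iff₀ (by linarith)] at h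
    simp only [j]; push_cast
    nlinarith
  have hj' : (j : ℚ) * a₀ ≤ (c₀ : ℚ) + ((h¹O : ℚ) + 1) * a₀ := by
    have h := Int.floor_le ((c₀ : ℚ) / (a₀ : ℚ))
    rw [le_div_iff₀ (by linarith)] at h
    simp only [j]; push_cast
    nlinarith
  refine ⟨H₀, u₀, hu₀, j, hH₀, by omega, hpQ, ?_, ?_⟩
  · refine subsingleton_h0_twistOn k hdim ι hι hL hLa hQc j fun T v hv hT hT0 => ?_
    haveI := hv
    have t1 : (1 : ℚ) ≤ (α T : ℚ) := by exact_mod_cast mult_pos_of_isPure k hdim hLa hpQ v hT hT0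
    have t2 : (a₀ : ℚ) = (α T : ℚ) + (α (cokernel v) : ℚ) := by
      rw [← ha₀]; exact_mod_cast mult_mono k hdim hLa v hT hQc
    have t3 : (c₀ : ℚ) = (χ T : ℚ) + (χ (cokernel v) : ℚ) := by
      rw [← hc₀]; exact_mod_cast euler_mono k v hT hQc
    have t4 : (χ T : ℚ) * a₀ ≤ (c₀ : ℚ) * (α T : ℚ) := by
      haveI := hT.1
      rcases eq_or_lt_of_le (mult_nonneg k hdim hLa (QCohMod.isCoh_cokernel v hQc)) with h | h
      · have h5 : (0 : ℚ) ≤ (χ (cokernel v) : ℚ) := by
          exact_mod_cast euler_nonneg_of_mult_zero k hdim hLa (QCohMod.isCoh_cokernel v hQc) h.symm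
        rw [← h] at t2
        push_cast at t2
        rw [show (α T : ℚ) = a₀ by linarith]
        nlinarith
      · have h5 := hsubQ T v hv hT (by omega)
        linear_combination h5 + (-(a₀ : ℚ)) * t3 + (c₀ : ℚ) * t2
    have t5 : ((χ T : ℚ) + (h¹O : ℚ)) * a₀ < (j : ℚ) * (α T : ℚ) * a₀ := by
      have q1 := mul_lt_mul_of_pos_right hj (show (0 : ℚ) < (α T : ℚ) by linarith)
      have q2 : (h¹O : ℚ) * a₀ ≤ (h¹O : ℚ) * a₀ * (α T : ℚ) := le_mul_of_one_le_right (by positivity) t1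
      linarith
    exact_mod_cast lt_of_mul_lt_mul_right t5 (by linarith)
  · refine le_of_mul_le_mul_right ?_ (show (0 : ℚ) < a₀ by linarith)
    have := mul_le_mul_of_nonneg_right hj' (show (0 : ℚ) ≤ α G by linarith)
    nlinarith

include hdim hLa hι hL in
/-- Very negative Euler characteristic makes `h⁰` of the twists small. -/
theorem h0_twistOn_le_of_low {G : X.Modules} (hG : Coh.IsCoh G) (hp : ShStab.IsPure X G 1) (h0 : ¬ IsZero G)
    {jC A M : ℤ} (hjC : ∀ (H : X.Modules) (v : H ⟶ G), Mono v → Coh.IsCoh H → ¬ IsZero H →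
      χ H + (h¹O : ℤ) < jC * α H)
    (hA : α G ≤ A) (hMj : jC ≤ M) (hlow : χ G ≤ A * (jC - M - (h¹O : ℤ) - 1)) {q : ℤ} (hq : M ≤ q + jC)
    (hM0 : 0 ≤ M) :
    (Module.finrank k (Coh.HH X (Pic13.twistOn k ι G q) 0) : ℤ) ≤ (q + jC) * α G - M := by
  have hNo := Inter.isNoetherian k (X := X)
  obtain ⟨H, u, hu, j, hH, hαQ, hpQ, hs, hj⟩ := exists_minQuot k hdim hLa ι hι hL hG hp h0
  haveI := hu
  haveI := hG.1
  haveI := hH.1
  have hα1 : 1 ≤ α G := mult_pos_of_isPure k hdim hLa hp (𝟙 G) hG h0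
  have hQc : Coh.IsCoh (cokernel u) := QCohMod.isCoh_cokernel u hG
  have hpH : ShStab.IsPure X H 1 := HilbStab.isPure_of_mono hp u
  have hsH := subsingleton_h0_twistOn k hdim ι hι hL hLa hH jC fun T v hv hT hT0 => by
    haveI := hv
    exact hjC T (v ≫ u) (mono_comp v u) hT hT0
  have hbH := h0_twistOn_le k hdim ι hι hL hLa hH hpH hsH q
  have hbQ := h0_twistOn_le k hdim ι hι hL hLa hQc hpQ hs q
  rw [max_eq_right (hM0.trans hq)] at hbH
  let N := (Scheme.Modules.pullback ι).obj (Twist.twistProjSpace n k q)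
  haveI := PicAux.isEquivalence_tensorRightMod_of_isInvertible (L := N) (Misc13.NumTriv.isInvertible_tw k ι q)
  let g := (DCoh.tensorRightMod N).map u
  let p := (DCoh.tensorRightMod N).map (cokernel.π u)
  haveI hg : Mono g := (DCoh.tensorRightMod N).map_mono _
  have hS : (ShortComplex.mk g (cokernel.π g) (cokernel.condition g)).ShortExact :=
    { exact := ShortComplex.exact_of_g_is_cokernel _ (cokernelIsCokernel g) }
  have hGq : Coh.IsCoh ((DCoh.tensorRightMod N).obj G) := Misc13.NumTriv.isCoh_twistOn k ι hG q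
  have := EulerDeg.finite_HH k X hGq 0
  haveI : ((DCoh.tensorRightMod N).obj H).IsQuasicoherent := (Misc13.NumTriv.isCoh_twistOn k ι hH q).1
  have hCq : Coh.IsCoh (cokernel g) := QCohMod.isCoh_cokernel g hGq
  have := EulerDeg.finite_HH k X hCq 0
  haveI : Module.Finite k (Coh.HH X ((DCoh.tensorRightMod N).obj H) 0) :=
    EulerDeg.finite_HH k X (Misc13.NumTriv.isCoh_twistOn k ι hH q) 0
  have hex := LinearMap.exact_iff.1 (EulerDeg.exact_mid k hS 0)
  have h1 := LinearMap.finrank_range_add_finrank_ker (EulerDeg.hMap k (cokernel.π g) 0)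
  have h2 := Submodule.finrank_le (LinearMap.range (EulerDeg.hMap k (cokernel.π g) 0))
  have h3 : Module.finrank k (LinearMap.range (EulerDeg.hMap k g 0)) ≤
      Module.finrank k (Coh.HH X (Pic13.twistOn k ι H q) 0) := LinearMap.finrank_range_le _
  have h4 : Module.finrank k (LinearMap.ker (EulerDeg.hMap k (cokernel.π g) 0)) =
      Module.finrank k (LinearMap.range (EulerDeg.hMap k g 0)) := by rw [hex]
  have h5 : Module.finrank k (Coh.HH X (cokernel g) 0) =
      Module.finrank k (Coh.HH X (Pic13.twistOn k ι (cokernel u) q) 0) :=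
    EulerDeg.finrank_congr (k := k) (PreservesCokernel.iso (DCoh.tensorRightMod N) u).symm 0
  have hα := mult_mono k hdim hLa u hH hG
  -- compare
  have hj2 : j ≤ jC - M := by
    have e : (j : ℚ) * (α G : ℚ) ≤ ((jC - M : ℤ) : ℚ) * (α G : ℚ) := by
      have hl : (χ G : ℚ) ≤ (A : ℚ) * ((jC : ℚ) - M - (h¹O : ℚ) - 1) := by exact_mod_cast hlow
      have hA' : (α G : ℚ) ≤ (A : ℚ) := by exact_mod_cast hA
      have hneg : (jC : ℚ) - M - (h¹O : ℚ) - 1 ≤ 0 := by
        have : (jC : ℚ) ≤ M := by exact_mod_cast hMj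
        have : (0 : ℚ) ≤ (h¹O : ℚ) := Nat.cast_nonneg _
        linarith
      have := mul_le_mul_of_nonpos_right hA' hneg
      push_cast
      nlinarith
    exact_mod_cast le_of_mul_le_mul_right e (by exact_mod_cast hα1)
  have hmax : max 0 (q + j) * α (cokernel u) ≤ (q + jC - M) * α (cokernel u) :=
    mul_le_mul_of_nonneg_right (max_le (by omega) (by omega)) (by omega)
  have hMα : M ≤ M * α (cokernel u) := le_mul_of_one_le_right hM0 hαQ
  have h6 : (Module.finrank k (Coh.HH X (Pic13.twistOn k ι G q) 0) : ℤ) ≤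
      (Module.finrank k (Coh.HH X (Pic13.twistOn k ι H q) 0) : ℤ) +
      (Module.finrank k (Coh.HH X (Pic13.twistOn k ι (cokernel u) q) 0) : ℤ) := by
    rw [← h5]
    have e : Module.finrank k (Coh.HH X ((DCoh.tensorRightMod N).obj G) 0) ≤
        Module.finrank k (Coh.HH X (Pic13.twistOn k ι H q) 0) + Module.finrank k (Coh.HH X (cokernel g) 0) := by
      omega
    exact_mod_cast e
  rw [hα]
  nlinarith

end Groth.DecShCurve
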