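import Groth.Agent.DecShCurve.Mu
import Groth.Agent.DecShCurve.Setup
import Groth.Agent.Agf.SmoothRed
import Groth.Agent.S11503
import Groth.Agent.LocFree.Basic
import Groth.Agent.KTheory.LocFree
import Groth.Agent.DegMono.StalkSum

/-!
# Parabolic semistability on a smooth curve: the bound on subsheaves
-/

set_option autoImplicit false
set_option linter.style.haveILetI false
set_option backward.isDefEq.respectTransparency.types false

universe u

open CategoryTheory CategoryTheory.Limits AlgebraicGeometry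

namespace Groth.DecShCurve

open Groth

variable (k : Type u) [Field k] {X : Scheme.{u}} [X.Over (Spec (CommRingCat.of k))]
  [IsProper (X ↘ Spec (CommRingCat.of k))]

/-- Locally free modules on a smooth curve are coherent and pure. -/
theorem coh_pure_of_rank [Smooth (X ↘ Spec (CommRingCat.of k))] (hdim : topologicalKrullDim X ≤ 1)
    (hiso : ∀ x : X, ¬ IsOpen ({x} : Set X)) {E : X.Modules} {r : ℕ} (hE : FlatMod.IsFinLocFreeOfRank r E) :
    Coh.IsCoh E ∧ ShStab.IsPure X E 1 := by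
  have := Agf.isReduced_of_smooth (X ↘ Spec (CommRingCat.of k))
  have := Inter.isNoetherian k (X := X)
  have h := LocFree.isFinLocFree_of_rank hE
  exact ⟨KTheory.LocFree.isCoh h, isPure_one hdim hiso (Agent.S11503.isTorsionFree_of_isFinLocFree h)⟩

variable {ν : ℕ} (I : Fin ν → X.IdealSheafData) {E : X.Modules} (hE : Coh.IsCoh E)
  (K : ∀ i, Submodule k (ParSh.fibD X (I i) E)) (κ : Fin ν → ℚ) (hκ : ∀ i, 0 < κ i ∧ κ i < 1) {r : ℕ}
  (hK : ∀ i, Module.finrank k (ParSh.fibD X (I i) E ⧸ K i) = r)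

/-- The parabolic correction `χ - parχ`. -/
noncomputable def parC {F : X.Modules} (ι : F ⟶ E) : ℚ := (Curv2.euler k X F : ℚ) - DecSh.parChi k I K κ ι

include hE hκ hK in
theorem parC_bounds {F : X.Modules} (ι : F ⟶ E) :
    0 ≤ parC k I K κ ι ∧ parC k I K κ ι ≤ (r : ℚ) * (ν : ℚ) := by
  have := Inter.isNoetherian k (X := X)
  simp only [parC, DecSh.parChi, sub_sub_cancel]
  refine ⟨Finset.sum_nonneg fun i _ => mul_nonneg (hκ i).1.le (Nat.cast_nonneg _), ?_⟩
  have h : ∀ i, κ i * (Module.finrank k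
      ((LinearMap.range (ParSh.fibDMap k X (I i) ι)).map (K i).mkQ) : ℚ) ≤ (r : ℚ) := fun i => by
    haveI : Module.Finite k (ParSh.fibD X (I i) E) :=
      EulerDeg.finite_HH k X (RefRank.isCoh_tensorMod hE (DegMono.isCoh_quotMod (I i))) 0
    have h1 : (Module.finrank k ((LinearMap.range (ParSh.fibDMap k X (I i) ι)).map (K i).mkQ) : ℚ) ≤ (r : ℚ) := by
      exact_mod_cast (Submodule.finrank_le _).trans (hK i).le
    exact (mul_le_of_le_one_left (Nat.cast_nonneg _) (hκ i).2.le).trans h1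
  refine (Finset.sum_le_sum fun i _ => h i).trans ?_
  simp [mul_comm]

variable (hdim : topologicalKrullDim X ≤ 1) {L : X.Modules} (hL : CohB1.IsAmple L)
  (hp : ShStab.IsPure X E 1) {D : X.Modules} {a b : ℕ} (T : DecSh.TF E a b D) {δ : ℚ} (hδ : 0 < δ)
  (hT : T.IsParSemistable k I K κ L δ)

include hE hκ hK hdim hL hp hδ hT in
/-- The one-step consequence of parabolic semistability. -/
theorem single_le_par {F : X.Modules} (ι : F ⟶ E) [Mono ι] (hF : Coh.IsCoh F) (hF0 : ¬ IsZero F)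
    (hι : ¬ IsIso ι) :
    (DecSh.mult k X L E : ℚ) * ((Curv2.euler k X F : ℚ) - (r : ℚ) * (ν : ℚ)) -
        (DecSh.mult k X L F : ℚ) * DecSh.parChi k I K κ (𝟙 E)
      ≤ δ * (a : ℚ) * ((DecSh.mult k X L E : ℚ) - (DecSh.mult k X L F : ℚ)) := by
  let P := Subobject.mk ι
  let e : (P : X.Modules) ≅ F := Subobject.underlyingIso ι
  have hP : P ≠ ⊤ := fun h => hι (by
    have h' : IsIso P.arrow := (Subobject.isIso_arrow_iff_eq_top P).2 h
    rw [← Subobject.underlyingIso_arrow ι]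
    exact IsIso.comp_isIso' inferInstance h')
  let 𝓖 := DecSh.WFilt.single P hP (fun h => hF0 (h.of_iso e.symm))
  have h := hT 𝓖 fun _ => QCohMod.isCoh_of_iso e.symm hF
  obtain ⟨J, -, hJ⟩ := 𝓖.exists_gam_eq_mu (DecSh.mult k X L E) (fun P => DecSh.mult k X L (P : X.Modules)) T.nv
  rw [← hJ] at h
  let o : Fin 𝓖.t := ⟨0, Nat.one_pos⟩
  have hν : 𝓖.nu (DecSh.mult k X L E) (fun P => DecSh.mult k X L (P : X.Modules)) J o ≤ a :=
    (Finset.card_filter_le _ _).trans (by simp)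
  simp only [DecSh.WFilt.msum, DecSh.WFilt.gam] at h
  change (∑ _x : Fin 1, (1 : ℚ) * ((DecSh.mult k X L E : ℚ) * DecSh.parChi k I K κ P.arrow -
      (DecSh.mult k X L (P : X.Modules) : ℚ) * DecSh.parChi k I K κ (𝟙 E))) +
    δ * (∑ x : Fin 1, (1 : ℚ) * ((a : ℚ) * (DecSh.mult k X L (P : X.Modules) : ℚ) -
      (𝓖.nu (DecSh.mult k X L E) (fun P => DecSh.mult k X L (P : X.Modules)) J (x : Fin 𝓖.t) : ℚ) *
        (DecSh.mult k X L E : ℚ))) ≤ 0 at h
  rw [Fin.sum_univ_one, Fin.sum_univ_one] at h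
  change (1 : ℚ) * ((DecSh.mult k X L E : ℚ) * DecSh.parChi k I K κ P.arrow -
      (DecSh.mult k X L (P : X.Modules) : ℚ) * DecSh.parChi k I K κ (𝟙 E)) +
    δ * ((1 : ℚ) * ((a : ℚ) * (DecSh.mult k X L (P : X.Modules) : ℚ) -
      (𝓖.nu (DecSh.mult k X L E) (fun P => DecSh.mult k X L (P : X.Modules)) J o : ℚ) *
        (DecSh.mult k X L E : ℚ))) ≤ 0 at h
  have hc := (parC_bounds k I hE K κ hκ hK P.arrow).2
  simp only [parC] at hc
  rw [EulerDeg.euler_congr k e] at hc
  rw [mult_congr k e] at h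
  have hα : (0 : ℚ) ≤ DecSh.mult k X L E := by exact_mod_cast mult_nonneg k hdim hL hE
  have h2 : (𝓖.nu (DecSh.mult k X L E) (fun P => DecSh.mult k X L (P : X.Modules)) J o : ℚ) *
      (DecSh.mult k X L E : ℚ) ≤ (a : ℚ) * (DecSh.mult k X L E : ℚ) :=
    mul_le_mul_of_nonneg_right (by exact_mod_cast hν) hα
  nlinarith [mul_le_mul_of_nonneg_left h2 hδ.le, mul_le_mul_of_nonneg_left hc hα]

include hE hκ hK hdim hL hp hδ hT in
/-- Parabolic semistability bounds the Euler characteristics of subsheaves. -/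
theorem euler_le_of_isParSemistable {F : X.Modules} (ι : F ⟶ E) [Mono ι] (hF : Coh.IsCoh F) :
    (Curv2.euler k X F : ℚ) ≤
      |(Curv2.euler k X E : ℚ)| + 2 * ((r : ℚ) * (ν : ℚ)) + δ * (a : ℚ) * (DecSh.mult k X L E : ℚ) := by
  have hα : (0 : ℚ) ≤ DecSh.mult k X L E := by exact_mod_cast mult_nonneg k hdim hL hE
  have hrν : (0 : ℚ) ≤ (r : ℚ) * (ν : ℚ) := by positivity
  have hnn : (0 : ℚ) ≤ δ * (a : ℚ) * (DecSh.mult k X L E : ℚ) := by positivity
  by_cases hF0 : IsZero F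
  · rw [EulerDeg.euler_of_isZero (k := k) (fun q => CohC3.subsingleton_HH_of_isZero (A := k) hF0 q)]
    push_cast; positivity
  by_cases hι : IsIso ι
  · rw [EulerDeg.euler_congr k (asIso ι)]
    linarith [le_abs_self (Curv2.euler k X E : ℚ)]
  have h := single_le_par k I hE K κ hκ hK hdim hL hp T hδ hT ι hF hF0 hι
  obtain ⟨c0, c1⟩ := parC_bounds k I hE K κ hκ hK (𝟙 E)
  simp only [parC] at c0 c1
  have h1 : (1 : ℚ) ≤ DecSh.mult k X L F := by exact_mod_cast mult_pos_of_isPure k hdim hL hp ι hF hF0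
  have h2 : (DecSh.mult k X L F : ℚ) ≤ DecSh.mult k X L E := by exact_mod_cast mult_le_of_mono k hdim hL ι hF hE
  refine le_of_mul_le_mul_left ?_ (show (0 : ℚ) < DecSh.mult k X L E by linarith)
  have hδa : (0 : ℚ) ≤ δ * a := by positivity
  have t1 : (DecSh.mult k X L F : ℚ) * DecSh.parChi k I K κ (𝟙 E) ≤
      (DecSh.mult k X L E : ℚ) * |(Curv2.euler k X E : ℚ)| := by
    have := mul_le_mul_of_nonneg_left (show DecSh.parChi k I K κ (𝟙 E) ≤ |(Curv2.euler k X E : ℚ)| by
      linarith [le_abs_self (Curv2.euler k X E : ℚ)]) (le_trans zero_le_one h1)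
    exact this.trans (mul_le_mul_of_nonneg_right h2 (abs_nonneg _))
  nlinarith [mul_nonneg (mul_nonneg hδa hα) (show (0 : ℚ) ≤ (DecSh.mult k X L E : ℚ) - 1 by linarith),
    mul_nonneg hδa (le_trans zero_le_one h1), mul_nonneg hα hrν]

end Groth.DecShCurve
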