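import Groth.Agent.DecShCurve.Core
import Groth.Agent.CohC3.GradedVanishing

/-!
# A lower bound on the sections of quotients bounds the subsheaves
-/

set_option autoImplicit false
set_option linter.style.haveILetI false
set_option backward.isDefEq.respectTransparency.types false

universe u

open CategoryTheory CategoryTheory.Limits AlgebraicGeometry

namespace Groth.DecShCurve

open Groth

variable (k : Type u) [Field k] {X : Scheme.{u}} [X.Over (Spec (CommRingCat.of k))]
  [IsProper (X ↘ Spec (CommRingCat.of k))] (hdim : topologicalKrullDim X ≤ 1)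
  {L : X.Modules} (hLa : CohB1.IsAmple L)

local notation "α" => DecSh.mult k X L
local notation "χ" => Curv2.euler k X

include hdim hLa in
/-- Zero dimensional modules have multiplicity zero. -/
theorem mult_eq_zero_of_dim_le_zero {T : X.Modules} (hT : Coh.IsCoh T)
    (hd : topologicalKrullDim (CohB1.support T) ≤ 0) : α T = 0 := by
  obtain ⟨P, hP, -, -, h1⟩ := exists_linear k hdim hLa hT
  have h := HilbStab.natDegree_le_of_support_subset k hLa (d := 0) (E := T) (by simpa using hd) subset_rfl hT hP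
  rw [Polynomial.coeff_eq_zero_of_natDegree_lt (by omega)] at h1
  exact_mod_cast h1.symm

include hdim hLa in
theorem euler_pos_of_dim_le_zero {T : X.Modules} (hT : Coh.IsCoh T) (h0 : ¬ IsZero T)
    (hd : topologicalKrullDim (CohB1.support T) ≤ 0) : 1 ≤ χ T := by
  haveI := hT.1
  have h := EulerDeg.supportedAtClosed_of_dim_le_zero hd
  by_contra hlt
  exact h0 (EulerDeg.isZero_of_euler_nonpos k hT h (by omega))

include hdim hLa in
theorem euler_nonneg_of_mult_zero {T : X.Modules} (hT : Coh.IsCoh T) (h : α T = 0) : 0 ≤ χ T := by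
  by_cases h0 : IsZero T
  · rw [EulerDeg.euler_of_isZero (k := k) (fun q => CohC3.subsingleton_HH_of_isZero (A := k) h0 q)]
  haveI := hT.1
  have := EulerDeg.noetherianSpace_of_proper k X
  obtain ⟨P, hP, hd, -, h1⟩ := exists_linear k hdim hLa hT
  have hdeg := HilbStab.natDegree_eq_dim k hLa hT h0 hP
  have hP0 : P.natDegree = 0 := by
    by_contra hne
    have h2 : P.natDegree = 1 := by omega
    have := Polynomial.leadingCoeff_ne_zero.2 (show P ≠ 0 by intro e; simp [e] at h2)
    rw [Polynomial.leadingCoeff, h2, h1, h] at this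
    exact this (by simp)
  rw [hP0] at hdeg
  exact EulerDeg.euler_nonneg k (EulerDeg.supportedAtClosed_of_dim_le_zero (by simp [hdeg]))

variable {n : ℕ} (ι : X ⟶ CohB1.ProjSpace n k) [IsClosedImmersion ι]
  (hι : ι ≫ CohB1.ProjSpace.toSpec n k = X ↘ Spec (CommRingCat.of k))
  (hL : Nonempty (L ≅ (Scheme.Modules.pullback ι).obj (Twist.twistProjSpace n k 1)))

include hdim hLa hι hL in
/-- If all proper quotients have many sections in degree `m`, the subsheaves have bounded `χ`. -/
theorem euler_le_of_quotient_sections [Infinite k] {E : X.Modules} (hE : Coh.IsCoh E)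
    (hp : ShStab.IsPure X E 1) {D : ℚ} (hD : 0 ≤ D) {m : ℕ}
    (hm : D < (χ E : ℚ) + (m : ℚ) * (α E : ℚ))
    (hQ : ∀ (G : X.Modules) (i : G ⟶ E), Mono i → Coh.IsCoh G → ¬ IsZero G → ¬ IsIso i →
      (α (cokernel i) : ℚ) * ((χ E : ℚ) + (m : ℚ) * (α E : ℚ)) -
        (α E : ℚ) * (Module.finrank k (Coh.HH X (Pic13.twistOn k ι (cokernel i) (m : ℤ)) 0) : ℚ) ≤ D)
    {G : X.Modules} (i : G ⟶ E) [Mono i] (hG : Coh.IsCoh G) :
    (χ G : ℚ) ≤ |(χ E : ℚ)| + D +
      ((Module.finrank k (Coh.HH X (Coh.structureModule X) 1) : ℚ) + 1) * (α E : ℚ) := by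
  have hNo := Inter.isNoetherian k (X := X)
  set h1O : ℕ := Module.finrank k (Coh.HH X (Coh.structureModule X) 1)
  haveI := hE.1
  have hα : 0 ≤ α E := mult_nonneg k hdim hLa hE
  have hαq : (0 : ℚ) ≤ α E := by exact_mod_cast hα
  have hK0 : (0 : ℚ) ≤ ((h1O : ℚ) + 1) * (α E : ℚ) := by positivity
  by_cases hG0 : IsZero G
  · rw [EulerDeg.euler_of_isZero (k := k) (fun q => CohC3.subsingleton_HH_of_isZero (A := k) hG0 q)]
    push_cast; positivity
  by_cases hi : IsIso i
  · rw [EulerDeg.euler_congr k (asIso i)]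
    linarith [le_abs_self (χ E : ℚ)]
  have hα1 : 1 ≤ α E :=
    (mult_pos_of_isPure k hdim hLa hp i hG hG0).trans (mult_le_of_mono k hdim hLa i hG hE)
  have hα1q : (1 : ℚ) ≤ α E := by exact_mod_cast hα1
  -- the candidates
  let K : Set (ℤ × ℤ) := {p | ∃ (H : X.Modules) (u : H ⟶ E) (_ : Mono u), Coh.IsCoh H ∧ ¬ IsZero H ∧ ¬ IsIso u ∧
    α (cokernel u) = p.1 ∧ χ (cokernel u) = p.2 ∧ 1 ≤ p.1 ∧ p.2 * α E ≤ χ E * p.1}
  let low : ℚ := (χ E : ℚ) - D - ((h1O : ℚ) + 1) * (α E : ℚ)
  have hquot : ∀ (H : X.Modules) (u : H ⟶ E), Mono u → Coh.IsCoh H → ¬ IsZero H → ¬ IsIso u →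
      1 ≤ α (cokernel u) → (α (cokernel u) : ℚ) * low ≤ (χ (cokernel u) : ℚ) * (α E : ℚ) := by
    intro H u hu hH hH0 hui hαu
    have hfin : K.Finite := by
      refine ((Set.finite_Icc (1 : ℤ) (α E)).prod (Set.finite_Icc
        (-(Module.finrank k (Coh.HH X E 1) : ℤ)) (|χ E| * α E))).subset ?_
      rintro ⟨a, c⟩ ⟨H', u', hu', hH', -, -, ha, hc, ha1, hca⟩
      haveI := hH'.1
      have hQc : Coh.IsCoh (cokernel u') := QCohMod.isCoh_cokernel u' hE
      refine ⟨⟨ha1, ?_⟩, ⟨?_, ?_⟩⟩
      · have := mult_mono k hdim hLa u' hH' hE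
        have := mult_nonneg k hdim hLa hH'
        simp only at ha ⊢; omega
      · have h1 := h1_le_of_epi k hdim (cokernel.π u') hE
        have h2 := euler_ge_neg_h1 k hdim (cokernel u')
        simp only at hc ⊢; omega
      · simp only at hca ha1 ⊢
        have haA : a ≤ α E := by
          have := mult_mono k hdim hLa u' hH' hE
          have := mult_nonneg k hdim hLa hH'
          simp only at ha; omega
        rcases le_or_gt c 0 with hc0 | hc0
        · nlinarith [abs_nonneg (χ E)]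
        · have q1 : χ E * a ≤ |χ E| * α E :=
            (mul_le_mul_of_nonneg_right (le_abs_self (χ E)) (by omega)).trans
              (mul_le_mul_of_nonneg_left haA (abs_nonneg _))
          nlinarith
    by_cases hin : χ (cokernel u) * α E ≤ χ E * α (cokernel u)
    swap
    · have h1 : (χ E : ℚ) * (α (cokernel u) : ℚ) ≤ (χ (cokernel u) : ℚ) * (α E : ℚ) := by
        exact_mod_cast le_of_not_ge hin
      have : (0 : ℚ) ≤ (α (cokernel u) : ℚ) := by exact_mod_cast le_trans zero_le_one hαu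
      nlinarith
    obtain ⟨⟨a₀, c₀⟩, ⟨H₀, u₀, hu₀, hH₀, hH₀0, hu₀i, ha₀, hc₀, ha₀1, hca₀⟩, hmin⟩ :=
      hfin.exists_minimalFor (fun p : ℤ × ℤ => (p.2 : ℚ) / (p.1 : ℚ)) K
        ⟨(α (cokernel u), χ (cokernel u)), H, u, hu, hH, hH0, hui, rfl, rfl, hαu, hin⟩
    simp only at ha₀ hc₀ ha₀1 hca₀
    haveI := hu₀
    haveI := hH₀.1
    let Q := cokernel u₀
    have hQc : Coh.IsCoh Q := QCohMod.isCoh_cokernel u₀ hE
    haveI := hQc.1
    have ha₀q : (1 : ℚ) ≤ a₀ := by exact_mod_cast ha₀1
    -- minimality against every quotient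
    have hall : ∀ (H : X.Modules) (u : H ⟶ E), Mono u → Coh.IsCoh H → ¬ IsZero H → ¬ IsIso u →
        1 ≤ α (cokernel u) → (c₀ : ℚ) * (α (cokernel u) : ℚ) ≤ (χ (cokernel u) : ℚ) * (a₀ : ℚ) := by
      intro H u hu hH hH0 hui hαu
      have hp1 : (0 : ℚ) < (α (cokernel u) : ℚ) := by exact_mod_cast hαu
      by_cases hin : χ (cokernel u) * α E ≤ χ E * α (cokernel u)
      · have h := hmin (j := (α (cokernel u), χ (cokernel u)))
          ⟨H, u, hu, hH, hH0, hui, rfl, rfl, hαu, hin⟩
        simp only at h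
        rcases le_total ((c₀ : ℚ) / a₀) ((χ (cokernel u) : ℚ) / (α (cokernel u) : ℚ)) with h' | h'
        · exact (div_le_div_iff₀ (by linarith) hp1).1 h'
        · exact (div_le_div_iff₀ (by linarith) hp1).1 (h h')
      · have h1 : (χ E : ℚ) * (α (cokernel u) : ℚ) ≤ (χ (cokernel u) : ℚ) * (α E : ℚ) := by
          exact_mod_cast le_of_not_ge hin
        have h2 : (c₀ : ℚ) * (α E : ℚ) ≤ (χ E : ℚ) * a₀ := by exact_mod_cast hca₀
        refine le_of_mul_le_mul_right ?_ (show (0 : ℚ) < α E by linarith)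
        nlinarith
    -- quotients of `Q`
    have hsubQ : ∀ (T : X.Modules) (v : T ⟶ Q), Mono v → Coh.IsCoh T →
        (1 ≤ α (cokernel v) → (c₀ : ℚ) * (α (cokernel v) : ℚ) ≤ (χ (cokernel v) : ℚ) * (a₀ : ℚ)) := by
      intro T v hv hT h1
      haveI := hT.1
      let q : E ⟶ cokernel v := cokernel.π u₀ ≫ cokernel.π v
      have hC : Coh.IsCoh (cokernel v) := QCohMod.isCoh_cokernel v hQc
      haveI := hC.1
      haveI : Epi q := epi_comp _ _
      have hKc : Coh.IsCoh (kernel q) := QCohMod.isCoh_kernel q hE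
      let e : cokernel (kernel.ι q) ≅ cokernel v :=
        ((Abelian.epiIsCokernelOfKernel _ (kernelIsKernel q)).coconePointUniqueUpToIso
          (cokernelIsCokernel (kernel.ι q))).symm
      have hne : ¬ IsIso (kernel.ι q) := fun h => by
        have hz : IsZero (cokernel v) :=
          (isZero_cokernel_of_epi (kernel.ι q)).of_iso e.symm
        have h0 : α (cokernel v) = 0 := by
          rw [DecSh.mult, EulerDeg.euler_of_isZero (k := k)
            (fun q => CohC3.subsingleton_HH_of_isZero (A := k) hz q),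
            EulerDeg.euler_of_isZero (k := k) (M := CohB1.tensorMod (cokernel v) L)
              (fun q => CohC3.subsingleton_HH_of_isZero (A := k)
                (Functor.map_isZero (DCoh.tensorRightMod L) hz) q), sub_zero]
        omega
      have hnz : ¬ IsZero (kernel q) := fun hz => by
        have hu : u₀ ≫ q = 0 := by rw [cokernel.condition_assoc, Limits.zero_comp]
        have : u₀ = 0 := by rw [← kernel.lift_ι q u₀ hu, hz.eq_of_tgt (kernel.lift q u₀ hu) 0, Limits.zero_comp]
        exact hH₀0 ((IsZero.iff_id_eq_zero _).2 (by rw [← cancel_mono u₀, Category.id_comp, Limits.zero_comp, this]))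
      have := hall _ (kernel.ι q) inferInstance hKc hnz hne (by rwa [mult_congr k e])
      rwa [mult_congr k e, EulerDeg.euler_congr k e] at this
    have hpQ : ShStab.IsPure X Q 1 := by
      intro T v hv hT hT0
      refine le_antisymm ((SpectralTopology.dim_le_of_subset (Set.subset_univ _)).trans
        ((Homeomorph.Set.univ X).isHomeomorph.topologicalKrullDim_eq.le.trans hdim)) ?_
      by_contra hlt
      have hd : topologicalKrullDim (CohB1.support T) ≤ 0 := ENat.WithBot.lt_add_one_iff.1 (lt_of_not_ge hlt)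
      have h1 := mult_eq_zero_of_dim_le_zero k hdim hLa hT hd
      have h2 := euler_pos_of_dim_le_zero k hdim hLa hT hT0 hd
      have h3 := mult_mono k hdim hLa v hT hQc
      have h4 := euler_mono k v hT hQc
      change α (cokernel u₀) = _ at h3
      change χ (cokernel u₀) = _ at h4
      have h5 := hsubQ T v hv hT (by omega)
      rw [show α (cokernel v) = a₀ by omega, show χ (cokernel v) = c₀ - χ T by omega] at h5
      push_cast at h5
      have : (1 : ℚ) ≤ χ T := by exact_mod_cast h2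
      nlinarith
    -- the sections of `Q`
    let j : ℤ := ⌊(c₀ : ℚ) / (a₀ : ℚ)⌋ + h1O + 1
    have hj : (c₀ : ℚ) + h1O * a₀ < (j : ℚ) * a₀ := by
      have h := Int.lt_floor_add_one ((c₀ : ℚ) / (a₀ : ℚ))
      rw [div_lt_iff₀ (by linarith)] at h
      simp only [j]; push_cast
      nlinarith
    have hj' : (j : ℚ) * a₀ ≤ (c₀ : ℚ) + ((h1O : ℚ) + 1) * a₀ := by
      have h := Int.floor_le ((c₀ : ℚ) / (a₀ : ℚ))
      rw [le_div_iff₀ (by linarith)] at h
      simp only [j]; push_cast
      nlinarith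
    have hsub0 := subsingleton_h0_twistOn k hdim ι hι hL hLa hQc j fun T v hv hT hT0 => by
      haveI := hv
      have t1 : (1 : ℚ) ≤ (α T : ℚ) := by exact_mod_cast mult_pos_of_isPure k hdim hLa hpQ v hT hT0
      have t2 : (a₀ : ℚ) = (α T : ℚ) + (α (cokernel v) : ℚ) := by
        rw [← ha₀]; exact_mod_cast mult_mono k hdim hLa v hT hQc
      have t3 : (c₀ : ℚ) = (χ T : ℚ) + (χ (cokernel v) : ℚ) := by
        rw [← hc₀]; exact_mod_cast euler_mono k v hT hQc
      have t4 : (χ T : ℚ) * a₀ ≤ (c₀ : ℚ) * (α T : ℚ) := by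
        haveI := hT.1
        rcases eq_or_lt_of_le (mult_nonneg k hdim hLa (QCohMod.isCoh_cokernel v hQc)) with h | h
        · have h5 : (0 : ℚ) ≤ (χ (cokernel v) : ℚ) := by
            exact_mod_cast euler_nonneg_of_mult_zero k hdim hLa (QCohMod.isCoh_cokernel v hQc) h.symm
          rw [← h] at t2
          push_cast at t2
          rw [show (α T : ℚ) = a₀ by linarith]
          nlinarith
        · have h5 := hsubQ T v hv hT (by omega)
          linear_combination h5 + (-(a₀ : ℚ)) * t3 + (c₀ : ℚ) * t2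
      have t5 : ((χ T : ℚ) + (h1O : ℚ)) * a₀ < (j : ℚ) * (α T : ℚ) * a₀ := by
        have q1 := mul_lt_mul_of_pos_right hj (show (0 : ℚ) < (α T : ℚ) by linarith)
        have q2 : (h1O : ℚ) * a₀ ≤ (h1O : ℚ) * a₀ * (α T : ℚ) := le_mul_of_one_le_right (by positivity) t1
        linarith
      exact_mod_cast lt_of_mul_lt_mul_right t5 (by linarith)
    have hh0 : (Module.finrank k (Coh.HH X (Pic13.twistOn k ι Q (m : ℤ)) 0) : ℤ) ≤
        max 0 ((m : ℤ) + j) * a₀ := by
      rw [← ha₀]; exact h0_twistOn_le k hdim ι hι hL hLa hQc hpQ hsub0 m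
    have hh0q : (Module.finrank k (Coh.HH X (Pic13.twistOn k ι Q (m : ℤ)) 0) : ℚ) ≤
        max 0 ((m : ℚ) + (j : ℚ)) * (a₀ : ℚ) := by exact_mod_cast hh0
    have hcond := hQ H₀ u₀ hu₀ hH₀ hH₀0 hu₀i
    change (α Q : ℚ) * _ - _ ≤ D at hcond
    rw [show α Q = a₀ from ha₀] at hcond
    have hmain : (a₀ : ℚ) * low ≤ (c₀ : ℚ) * (α E : ℚ) := by
      rcases le_or_gt ((m : ℚ) + (j : ℚ)) 0 with hle | hgt
      · rw [max_eq_left hle, zero_mul] at hh0q
        have h0 : (Module.finrank k (Coh.HH X (Pic13.twistOn k ι Q (m : ℤ)) 0) : ℚ) = 0 :=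
          le_antisymm hh0q (Nat.cast_nonneg _)
        rw [h0] at hcond
        nlinarith
      · rw [max_eq_right hgt.le] at hh0q
        have t : (α E : ℚ) * (Module.finrank k (Coh.HH X (Pic13.twistOn k ι Q (m : ℤ)) 0) : ℚ) ≤
            (α E : ℚ) * (((m : ℚ) + (j : ℚ)) * a₀) := mul_le_mul_of_nonneg_left hh0q hαq
        have t' : (α E : ℚ) * ((j : ℚ) * a₀) ≤ (α E : ℚ) * ((c₀ : ℚ) + ((h1O : ℚ) + 1) * a₀) :=
          mul_le_mul_of_nonneg_left hj' hαq
        simp only [low]
        nlinarith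
    have h := hall H u hu hH hH0 hui hαu
    refine le_of_mul_le_mul_right ?_ (show (0 : ℚ) < a₀ by linarith)
    have : (0 : ℚ) ≤ (α (cokernel u) : ℚ) := by exact_mod_cast le_trans zero_le_one hαu
    nlinarith
  -- conclude
  haveI := hG.1
  have e1 : (χ E : ℚ) = (χ G : ℚ) + (χ (cokernel i) : ℚ) := by exact_mod_cast euler_mono k i hG hE
  have e2 : (α E : ℚ) = (α G : ℚ) + (α (cokernel i) : ℚ) := by exact_mod_cast mult_mono k hdim hLa i hG hE
  have hQc : Coh.IsCoh (cokernel i) := QCohMod.isCoh_cokernel i hE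
  rcases eq_or_lt_of_le (mult_nonneg k hdim hLa hQc) with h | h
  · have h5 : (0 : ℚ) ≤ (χ (cokernel i) : ℚ) := by
      exact_mod_cast euler_nonneg_of_mult_zero k hdim hLa hQc h.symm
    linarith [le_abs_self (χ E : ℚ)]
  · have h5 := hquot G i inferInstance hG hG0 hi (by omega)
    simp only [low] at h5
    have g1 : (1 : ℚ) ≤ (α (cokernel i) : ℚ) := by exact_mod_cast h
    have g2 : (0 : ℚ) ≤ (α G : ℚ) := by exact_mod_cast mult_nonneg k hdim hLa hG
    refine le_of_mul_le_mul_right ?_ (show (0 : ℚ) < α E by linarith)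
    nlinarith [le_abs_self (χ E : ℚ), neg_abs_le (χ E : ℚ), abs_nonneg (χ E : ℚ)]

end Groth.DecShCurve
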