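import Groth.Agent.DecShCurve.Mu
import Groth.Agent.DecShCurve.Dichotomy

/-!
# The sectional form of δ-semistability
-/

set_option autoImplicit false
set_option linter.style.haveILetI false
set_option backward.isDefEq.respectTransparency.types false

universe u

open CategoryTheory CategoryTheory.Limits AlgebraicGeometry

namespace Groth.DecShCurve

open Groth

variable (k : Type u) [Field k] {X : Scheme.{u}} [X.Over (Spec (CommRingCat.of k))]
  [IsProper (X ↘ Spec (CommRingCat.of k))] (hdim : topologicalKrullDim X ≤ 1)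
  {L : X.Modules} (hL : CohB1.IsAmple L) {E : X.Modules} (hE : Coh.IsCoh E) (hp : ShStab.IsPure X E 1)

local notation "αE" => DecSh.mult k X L E

variable {D : X.Modules} {a b : ℕ} (T : DecSh.TF E a b D)

include hdim hL hE hp in
/-- Dropping steps raises μ by at most their weight times `a (α - 1)`. -/
theorem mu_le_sub_add (𝓕 𝓕₁ : DecSh.WFilt E) (e : Fin 𝓕₁.t → Fin 𝓕.t)
    (hpiece : ∀ j, 𝓕₁.piece j = 𝓕.piece (e j)) (hwt : ∀ j, 𝓕₁.wt j = 𝓕.wt (e j))
    (hcoh : ∀ i, Coh.IsCoh ((𝓕.piece i : Subobject E) : X.Modules)) :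
    T.mu k L 𝓕 ≤ T.mu k L 𝓕₁ + ((∑ i, 𝓕.wt i) - ∑ j, 𝓕₁.wt j) * (a : ℚ) * ((αE : ℚ) - 1) := by
  classical
  let αf : Subobject E → ℤ := fun P => DecSh.mult k X L (P : X.Modules)
  let A : ℤ := DecSh.mult k X L E
  obtain ⟨I₁, hadm, hI⟩ := 𝓕₁.exists_gam_eq_mu A αf T.nv
  let lift : Fin (𝓕₁.t + 1) → Fin (𝓕.t + 1) := Fin.lastCases (Fin.last 𝓕.t) fun j => (e j).castSucc
  have hX : ∀ j, 𝓕.pieceX (lift j) = 𝓕₁.pieceX j := by
    intro j
    induction j using Fin.lastCases with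
    | last => simp [lift]
    | cast l => simp [lift, hpiece]
  have hm : ∀ j, 𝓕.mulX A αf (lift j) = 𝓕₁.mulX A αf j := by
    intro j
    induction j using Fin.lastCases with
    | last => simp [lift]
    | cast l => simp [lift, hpiece]
  have he : Function.Injective e := fun i j hij => 𝓕₁.piece_strictMono.injective (by rw [hpiece, hpiece, hij])
  let I : Fin a → Fin (𝓕.t + 1) := fun j => lift (I₁ j)
  have hI' : 𝓕.Adm T.nv I := by
    have : (fun j => 𝓕.pieceX (I j)) = fun j => 𝓕₁.pieceX (I₁ j) := funext fun j => hX _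
    show T.nv.nz _
    rw [this]
    exact hadm
  refine le_trans (𝓕.mu_le_gam A αf T.nv hI') ?_
  change 𝓕.gam A αf I ≤ 𝓕₁.mu A αf T.nv + _
  rw [← hI]
  set g : Fin 𝓕.t → ℚ := fun i => 𝓕.wt i * ((a : ℚ) * (αf (𝓕.piece i) : ℚ) - (𝓕.nu A αf I i : ℚ) * (A : ℚ))
    with hg
  have h1 : 𝓕₁.gam A αf I₁ = ∑ i ∈ Finset.univ.image e, g i := by
    rw [Finset.sum_image he.injOn, DecSh.WFilt.gam]
    refine Finset.sum_congr rfl fun j _ => ?_
    have hν : 𝓕.nu A αf I (e j) = 𝓕₁.nu A αf I₁ j := by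
      simp only [DecSh.WFilt.nu, I, hm, hpiece]
    simp only [hg, hν, hwt, hpiece]
  have h2 : (∑ i, 𝓕.wt i) - ∑ j, 𝓕₁.wt j = ∑ i ∈ (Finset.univ.image e)ᶜ, 𝓕.wt i := by
    have h : ∑ j, 𝓕₁.wt j = ∑ i ∈ Finset.univ.image e, 𝓕.wt i := by
      rw [Finset.sum_image he.injOn]; exact Finset.sum_congr rfl fun j _ => hwt j
    rw [h, ← Finset.sum_add_sum_compl (Finset.univ.image e) 𝓕.wt]; ring
  have h3 : 𝓕.gam A αf I = (∑ i ∈ Finset.univ.image e, g i) + ∑ i ∈ (Finset.univ.image e)ᶜ, g i :=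
    (Finset.sum_add_sum_compl _ _).symm
  rw [h3, h1, h2, mul_assoc, Finset.sum_mul]
  refine add_le_add le_rfl (Finset.sum_le_sum fun i _ => ?_)
  exact mul_le_mul_of_nonneg_left
    ((le_abs_self _).trans (term_bound k hdim hL hE hp 𝓕 hcoh I i)) (𝓕.wt_pos i).le

include hdim hL hE hp in
/-- The sectional inequality, from semistability and the dichotomy for the pieces. -/
theorem sectional_of_dichotomy {δ : ℚ} (hδ : 0 < δ) (c : Subobject E → ℚ) (hc : ∀ P, 0 ≤ c P) (cE : ℚ)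
    (hss : DecSh.IsDeltaSS (fun P => Coh.IsCoh (P : X.Modules)) αE (fun P => DecSh.mult k X L (P : X.Modules))
      ((Curv2.euler k X E : ℚ) - cE) (fun P => (Curv2.euler k X (P : X.Modules) : ℚ) - c P) T.nv δ)
    {n : ℕ} {M : ℤ} (hM : |(Curv2.euler k X E : ℚ) - cE| + δ * (a : ℚ) < (M : ℚ))
    (𝓕 : DecSh.WFilt E) (hcoh : ∀ i, Coh.IsCoh ((𝓕.piece i : Subobject E) : X.Modules))
    (hdi : ∀ i, Subsingleton (Coh.HH X (ShStab.twist X L ((𝓕.piece i : Subobject E) : X.Modules) n) 1) ∨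
      (Module.finrank k (Coh.HH X (ShStab.twist X L ((𝓕.piece i : Subobject E) : X.Modules) n) 0) : ℤ) ≤
        (n : ℤ) * DecSh.mult k X L ((𝓕.piece i : Subobject E) : X.Modules) - M) :
    let S : ℚ := (∑ i, 𝓕.wt i * ((αE : ℚ) *
        ((Module.finrank k (Coh.HH X (ShStab.twist X L ((𝓕.piece i : Subobject E) : X.Modules) n) 0) : ℚ) -
          c (𝓕.piece i)) -
      (DecSh.mult k X L ((𝓕.piece i : Subobject E) : X.Modules) : ℚ) *
        ((Curv2.euler k X (ShStab.twist X L E n) : ℚ) - cE))) + δ * T.mu k L 𝓕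
    S ≤ 0 ∧ (S = 0 → ∀ i, Subsingleton (Coh.HH X (ShStab.twist X L ((𝓕.piece i : Subobject E) : X.Modules) n) 1)) := by
  classical
  intro S
  let good : Fin 𝓕.t → Prop := fun i =>
    Subsingleton (Coh.HH X (ShStab.twist X L ((𝓕.piece i : Subobject E) : X.Modules) n) 1)
  let sect : Fin 𝓕.t → ℚ := fun i => (αE : ℚ) *
      ((Module.finrank k (Coh.HH X (ShStab.twist X L ((𝓕.piece i : Subobject E) : X.Modules) n) 0) : ℚ) -
        c (𝓕.piece i)) -
    (DecSh.mult k X L ((𝓕.piece i : Subobject E) : X.Modules) : ℚ) *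
      ((Curv2.euler k X (ShStab.twist X L E n) : ℚ) - cE)
  have hEn : (Curv2.euler k X (ShStab.twist X L E n) : ℚ) = (Curv2.euler k X E : ℚ) + (n : ℚ) * (αE : ℚ) := by
    exact_mod_cast euler_twist k hdim hL hE n
  have hgood : ∀ i, good i → sect i = (αE : ℚ) * ((Curv2.euler k X ((𝓕.piece i : Subobject E) : X.Modules) : ℚ) -
      c (𝓕.piece i)) - (DecSh.mult k X L ((𝓕.piece i : Subobject E) : X.Modules) : ℚ) *
        ((Curv2.euler k X E : ℚ) - cE) := fun i hi => by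
    have h : (Module.finrank k (Coh.HH X (ShStab.twist X L ((𝓕.piece i : Subobject E) : X.Modules) n) 0) : ℤ) =
        Curv2.euler k X ((𝓕.piece i : Subobject E) : X.Modules) +
          (n : ℤ) * DecSh.mult k X L ((𝓕.piece i : Subobject E) : X.Modules) := by
      rw [← euler_twist k hdim hL (hcoh i) n, EulerDeg.euler_eq_h0_sub_h1 k X hdim]
      haveI : Subsingleton _ := hi
      rw [Module.finrank_zero_of_subsingleton (M := Coh.HH X _ 1)]
      simp
    have h' : (Module.finrank k (Coh.HH X (ShStab.twist X L ((𝓕.piece i : Subobject E) : X.Modules) n) 0) : ℚ) =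
        (Curv2.euler k X ((𝓕.piece i : Subobject E) : X.Modules) : ℚ) +
          (n : ℚ) * (DecSh.mult k X L ((𝓕.piece i : Subobject E) : X.Modules) : ℚ) := by exact_mod_cast h
    simp only [sect, h', hEn]
    ring
  have hbad : ∀ i, ¬ good i → sect i + δ * ((a : ℚ) * ((αE : ℚ) - 1)) < 0 := fun i hi => by
    have h : (Module.finrank k (Coh.HH X (ShStab.twist X L ((𝓕.piece i : Subobject E) : X.Modules) n) 0) : ℚ) ≤
        (n : ℚ) * (DecSh.mult k X L ((𝓕.piece i : Subobject E) : X.Modules) : ℚ) - (M : ℚ) := by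
      exact_mod_cast (hdi i).resolve_left hi
    obtain ⟨h1, h2⟩ := piece_mult k hdim hL hE hp 𝓕 hcoh i
    have q1 : (1 : ℚ) ≤ DecSh.mult k X L ((𝓕.piece i : Subobject E) : X.Modules) := by exact_mod_cast h1
    have q2 : (DecSh.mult k X L ((𝓕.piece i : Subobject E) : X.Modules) : ℚ) ≤ (αE : ℚ) := by exact_mod_cast h2
    have hαq : (1 : ℚ) ≤ (αE : ℚ) := q1.trans q2
    have t1 := mul_le_mul_of_nonneg_left h (show (0 : ℚ) ≤ αE by linarith)
    have t2 : (0 : ℚ) ≤ (αE : ℚ) * c (𝓕.piece i) := mul_nonneg (by linarith) (hc _)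
    have t3 := mul_lt_mul_of_pos_left hM (show (0 : ℚ) < αE by linarith)
    have t4 : -((DecSh.mult k X L ((𝓕.piece i : Subobject E) : X.Modules) : ℚ) *
        ((Curv2.euler k X E : ℚ) - cE)) ≤ (αE : ℚ) * |(Curv2.euler k X E : ℚ) - cE| := by
      have := mul_le_mul_of_nonneg_right q2 (abs_nonneg ((Curv2.euler k X E : ℚ) - cE))
      nlinarith [neg_abs_le ((Curv2.euler k X E : ℚ) - cE)]
    have t5 : (0 : ℚ) ≤ δ * (a : ℚ) := by positivity
    simp only [sect, hEn]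
    linarith
  let s : Finset (Fin 𝓕.t) := Finset.univ.filter good
  have hS : S = (∑ i ∈ s, 𝓕.wt i * sect i) + (∑ i ∈ sᶜ, 𝓕.wt i * sect i) + δ * T.mu k L 𝓕 := by
    rw [Finset.sum_add_sum_compl]
  set B : ℚ := δ * ((a : ℚ) * ((αE : ℚ) - 1)) with hB
  have hrest : (∑ i ∈ sᶜ, 𝓕.wt i * sect i) + (∑ i ∈ sᶜ, 𝓕.wt i) * B ≤ 0 ∧
      (sᶜ.Nonempty → (∑ i ∈ sᶜ, 𝓕.wt i * sect i) + (∑ i ∈ sᶜ, 𝓕.wt i) * B < 0) := by
    rw [Finset.sum_mul, ← Finset.sum_add_distrib]
    have h : ∀ i ∈ sᶜ, 𝓕.wt i * sect i + 𝓕.wt i * B < 0 := fun i hi => by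
      rw [← mul_add]
      exact mul_neg_of_pos_of_neg (𝓕.wt_pos i) (hbad i fun hg =>
        Finset.mem_compl.1 hi (Finset.mem_filter.2 ⟨Finset.mem_univ _, hg⟩))
    exact ⟨Finset.sum_nonpos fun i hi => (h i hi).le, fun hne => Finset.sum_neg h hne⟩
  have hW : (∑ i, 𝓕.wt i) = (∑ i ∈ s, 𝓕.wt i) + ∑ i ∈ sᶜ, 𝓕.wt i := (Finset.sum_add_sum_compl _ _).symm
  have key : (∑ i ∈ s, 𝓕.wt i * sect i) + δ * T.mu k L 𝓕 ≤ (∑ i ∈ sᶜ, 𝓕.wt i) * B := by
    rcases s.eq_empty_or_nonempty with hs | hs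
    · have hμ := (le_abs_self _).trans (abs_mu_le k hdim hL hE hp T 𝓕 hcoh)
      rw [hW, hs, Finset.sum_empty, zero_add] at hμ
      rw [hs, Finset.sum_empty, zero_add, hB]
      have := mul_le_mul_of_nonneg_left hμ hδ.le
      linarith
    · let o : Fin s.card ↪o Fin 𝓕.t := s.orderEmbOfFin rfl
      let 𝓕₁ : DecSh.WFilt E :=
        { t := s.card
          t_pos := hs.card_pos
          piece := fun j => 𝓕.piece (o j)
          wt := fun j => 𝓕.wt (o j)
          piece_strictMono := 𝓕.piece_strictMono.comp o.strictMono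
          piece_ne_top := fun j => 𝓕.piece_ne_top _
          piece_nonzero := fun j => 𝓕.piece_nonzero _
          wt_pos := fun j => 𝓕.wt_pos _ }
      have hμ := mu_le_sub_add k hdim hL hE hp T 𝓕 𝓕₁ o (fun _ => rfl) (fun _ => rfl) hcoh
      have hsum : ∀ f : Fin 𝓕.t → ℚ, (∑ j : Fin s.card, f (o j)) = ∑ i ∈ s, f i := fun f => by
        rw [← Finset.sum_image (f := f) o.injective.injOn, Finset.image_orderEmbOfFin_univ]
      have hw : (∑ j, 𝓕₁.wt j) = ∑ i ∈ s, 𝓕.wt i := hsum 𝓕.wt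
      rw [hw, hW, add_sub_cancel_left] at hμ
      have h1 : 𝓕₁.msum αE (fun P => DecSh.mult k X L (P : X.Modules)) ((Curv2.euler k X E : ℚ) - cE)
          (fun P => (Curv2.euler k X (P : X.Modules) : ℚ) - c P) + δ * T.mu k L 𝓕₁ ≤ 0 :=
        hss 𝓕₁ fun j => hcoh _
      have h2 : 𝓕₁.msum αE (fun P => DecSh.mult k X L (P : X.Modules)) ((Curv2.euler k X E : ℚ) - cE)
          (fun P => (Curv2.euler k X (P : X.Modules) : ℚ) - c P) = ∑ i ∈ s, 𝓕.wt i * sect i := by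
        refine (hsum fun i => 𝓕.wt i * ((αE : ℚ) * ((Curv2.euler k X ((𝓕.piece i : Subobject E) : X.Modules) : ℚ) -
          c (𝓕.piece i)) - (DecSh.mult k X L ((𝓕.piece i : Subobject E) : X.Modules) : ℚ) *
            ((Curv2.euler k X E : ℚ) - cE))).trans ?_
        exact Finset.sum_congr rfl fun i hi => by rw [hgood i (Finset.mem_filter.1 hi).2]
      rw [h2] at h1
      have := mul_le_mul_of_nonneg_left hμ hδ.le
      rw [hB]
      linarith
  refine ⟨by rw [hS]; linarith [hrest.1], fun h0 i => ?_⟩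
  by_contra hi
  have := hrest.2 ⟨i, Finset.mem_compl.2 fun h => hi (Finset.mem_filter.1 h).2⟩
  rw [hS] at h0
  linarith

end Groth.DecShCurve
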